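import Mathlib
import Cfsg.Agent.S0016
import Cfsg.Agent.S0041
import Cfsg.Agent.H388.TwoGen
import Cfsg.Agent.Lib.MinNormalNonabelian
import Cfsg.Agent.Lib.SubnormalJoin

/-!
# Composition factors with a noncyclic `t`-subgroup and primes not joined to `t` (helper390)

`G` finite without elements of order `r * t`, `H` subnormal in `G`, `f : H → S` onto a nonabelian simple group with a
`t`-subgroup which is not a section of a `t`-group acting fixed-point-freely (for odd `t`: a noncyclic `t`-subgroup),
`r` not dividing `|Out S|`.  Then `|G|` and `|S|` have the same `r`-part and the orders of `r`-elements of `G` are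
orders of elements of `S`: `main`.
-/

set_option autoImplicit false

namespace Cfsg.Agent.H390.Chief

open Subgroup Cfsg.Agent.Lib.MinNormalNonabelian Cfsg.Agent.H388.TwoGen

universe u v w

/-- Commuting elements of orders divisible by `p`, `q` give an element of order `p * q`. -/
theorem exists_orderOf_mul {G : Type*} [Group G] [Finite G] {p q : ℕ} (hp : p.Prime) (hq : q.Prime)
    (hpq : p ≠ q) {a b : G} (h : Commute a b)
    (ha : p ∣ orderOf a) (hb : q ∣ orderOf b) : ∃ g : G, orderOf g = p * q := by
  have h1 := orderOf_pow_orderOf_div (orderOf_pos a).ne' ha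
  have h2 := orderOf_pow_orderOf_div (orderOf_pos b).ne' hb
  refine ⟨a ^ (orderOf a / p) * b ^ (orderOf b / q), ?_⟩
  rw [(h.pow_pow _ _).orderOf_mul_eq_mul_orderOf_of_coprime, h1, h2]
  rw [h1, h2]
  exact (Nat.coprime_primes hp hq).mpr hpq

theorem exists_orderOf_of_dvd {G : Type*} [Group G] [Finite G] {g : G} {m : ℕ} (h : m ∣ orderOf g) :
    ∃ x : G, orderOf x = m :=
  ⟨_, orderOf_pow_orderOf_div (orderOf_pos g).ne' h⟩

/-- Orders of elements of a quotient. -/
theorem exists_orderOf_of_surjective {G : Type u} {K : Type v} [Group G] [Finite G] [Group K] (f : G →* K)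
    (hf : Function.Surjective f) {m : ℕ} (h : ∃ x : K, orderOf x = m) : ∃ x : G, orderOf x = m := by
  obtain ⟨x, rfl⟩ := h
  obtain ⟨g, rfl⟩ := hf x
  exact exists_orderOf_of_dvd (orderOf_map_dvd f g)

theorem eq_of_card_eq {A : Type*} [Group A] [Finite A] [IsCyclic A] {x z : A} {t : ℕ} (hx : orderOf x = t)
    (hz : orderOf z = t) : zpowers x = zpowers z := by
  classical
  have := Fintype.ofFinite A
  have ht0 : 0 < t := hx ▸ orderOf_pos x
  have h1 := IsCyclic.card_pow_eq_one_le (α := A) ht0
  have key : ∀ w : A, orderOf w = t → ∀ a : A, a ^ t = 1 → a ∈ zpowers w := by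
    intro w hw a ha
    have h2 : (Finset.univ.filter fun a : A => a ∈ zpowers w) ⊆ Finset.univ.filter fun a : A => a ^ t = 1 := by
      intro b hb
      rw [Finset.mem_filter] at hb ⊢
      refine ⟨hb.1, ?_⟩
      obtain ⟨k, rfl⟩ := mem_zpowers_iff.1 hb.2
      rw [← zpow_natCast, ← zpow_mul, mul_comm, zpow_mul, zpow_natCast, ← hw, pow_orderOf_eq_one, one_zpow]
    have h3 : (Finset.univ.filter fun a : A => a ∈ zpowers w).card = t := by
      rw [← hw, ← Nat.card_zpowers, Nat.card_eq_fintype_card, Fintype.card_subtype]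
    have h4 := Finset.eq_of_subset_of_card_le h2 (by rw [h3]; exact h1)
    have h5 : a ∈ Finset.univ.filter fun a : A => a ^ t = 1 := by simp [ha]
    rw [← h4, Finset.mem_filter] at h5
    exact h5.2
  apply le_antisymm
  · rw [zpowers_le]
    exact key z hz x (by rw [← hx, pow_orderOf_eq_one])
  · rw [zpowers_le]
    exact key x hx z (by rw [← hz, pow_orderOf_eq_one])

/-- The class of `t`-groups acting fixed-point-freely, closed under quotients. -/
def Cy (t : ℕ) (X : Type*) [Group X] : Prop :=
  (t ≠ 2 ∧ IsCyclic X) ∨ (t = 2 ∧ ∀ A : Subgroup X, TwoGen A)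

theorem Cy.map {t : ℕ} {X : Type u} {Y : Type v} [Group X] [Group Y] (h : Cy t X) (f : X →* Y)
    (hf : Function.Surjective f) : Cy t Y := by
  rcases h with ⟨h2, h⟩ | ⟨h2, h⟩
  · exact Or.inl ⟨h2, isCyclic_of_surjective f hf⟩
  · exact Or.inr ⟨h2, fun A => (h (A.comap f)).map (f.subgroupComap A) (f.subgroupComap_surjective_of_surjective A hf)⟩

/-- A `t`-group normalizing a nontrivial `r`-group, no elements of order `r * t`. -/
theorem cy_of_fpf {G : Type u} [Group G] [Finite G] {r t : ℕ} (hr : r.Prime) (ht : t.Prime) (hrt : r ≠ t)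
    (hno : ∀ g : G, orderOf g ≠ r * t) {P R : Subgroup G} (hP : IsPGroup t P) (hR : IsPGroup r R) (hR1 : R ≠ ⊥)
    (hPR : P ≤ normalizer (R : Set G)) : Cy t P := by
  have := Fact.mk hr
  have := Fact.mk ht
  -- no commuting elements
  have hcom : ∀ x ∈ P, x ≠ 1 → ∀ y ∈ R, x * y = y * x → y = 1 := by
    intro x hx hx1 y hy hxy
    by_contra hy1
    have h1 : t ∣ orderOf x := by
      have := hP.dvd_orderOf (g := ⟨x, hx⟩) (fun h0 => hx1 (congrArg Subtype.val h0))
      rwa [← Subgroup.orderOf_coe] at this
    have h2 : r ∣ orderOf y := by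
      have := hR.dvd_orderOf (g := ⟨y, hy⟩) (fun h0 => hy1 (congrArg Subtype.val h0))
      rwa [← Subgroup.orderOf_coe] at this
    obtain ⟨g, hg⟩ := exists_orderOf_mul hr ht hrt (a := y) (b := x) hxy.symm h2 h1
    exact hno g hg
  -- the center of `R`
  have : Nontrivial R := (nontrivial_iff_ne_bot R).2 hR1
  have hZ : Nontrivial (center R) := hR.center_nontrivial
  let Z : Subgroup G := (center R).map R.subtype
  have hZR : Z ≤ R := map_subtype_le _
  have hZ1 : Z ≠ ⊥ := by
    intro h
    have := (Subgroup.map_eq_bot_iff_of_injective _ R.subtype_injective).1 h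
    exact (nontrivial_iff_ne_bot _).1 hZ this
  have hZc : IsMulCommutative Z := by
    refine ⟨⟨fun x y => Subtype.ext ?_⟩⟩
    obtain ⟨a, ha, hax⟩ := x.2
    obtain ⟨b, hb, hby⟩ := y.2
    have h1 : a * b = b * a := (mem_center_iff.1 hb a)
    change (x : G) * y = y * x
    rw [← hax, ← hby]
    exact congrArg (R.subtype) h1
  have hPZ : P ≤ normalizer (Z : Set G) := by
    intro x hx
    rw [mem_normalizer_iff]
    have h0 := mem_normalizer_iff.1 (hPR hx)
    have key : ∀ x : G, x ∈ normalizer (R : Set G) → ∀ z ∈ Z, x * z * x⁻¹ ∈ Z := by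
      intro x hx z hz
      obtain ⟨a, ha, rfl⟩ := hz
      have hx' := mem_normalizer_iff.1 hx
      have h1 : x * (a : G) * x⁻¹ ∈ R := (hx' a).1 a.2
      refine ⟨⟨_, h1⟩, mem_center_iff.2 fun b => ?_, rfl⟩
      apply Subtype.ext
      have h2 : x⁻¹ * (b : G) * x ∈ R := by
        have h3 := (mem_normalizer_iff.1 (inv_mem hx) b).1 b.2
        rwa [inv_inv] at h3
      have h4 := congrArg Subtype.val (mem_center_iff.1 ha ⟨_, h2⟩)
      change (b : G) * (x * a * x⁻¹) = x * a * x⁻¹ * b
      change x⁻¹ * (b : G) * x * a = a * (x⁻¹ * b * x) at h4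
      calc (b : G) * (x * a * x⁻¹) = x * (x⁻¹ * b * x * a) * x⁻¹ := by group
        _ = x * (a * (x⁻¹ * b * x)) * x⁻¹ := by rw [h4]
        _ = _ := by group
    intro z
    refine ⟨fun hz => key x (hPR hx) z hz, fun hz => ?_⟩
    have := key x⁻¹ (inv_mem (hPR hx)) _ hz
    simpa [mul_assoc] using this
  have hfpf : ∀ a ∈ P, a ≠ 1 → Z ⊓ centralizer {a} = ⊥ := by
    intro a ha ha1
    rw [eq_bot_iff]
    intro b hb
    obtain ⟨hb1, hb2⟩ := mem_inf.1 hb
    rw [mem_centralizer_singleton_iff] at hb2
    exact mem_bot.2 (hcom a ha ha1 b (hZR hb1) hb2.symm)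
  -- uniqueness of the subgroup of order `t`
  have huniq : ∀ x y : P, orderOf x = t → orderOf y = t → y ∈ zpowers x := by
    rcases subsingleton_or_nontrivial P with hsub | hnt
    · intro x y hx
      rw [Subsingleton.elim x 1, orderOf_one] at hx
      exact absurd hx.symm ht.one_lt.ne'
    have hc := hP.center_nontrivial
    obtain ⟨c, hc1⟩ := exists_ne (1 : center P)
    have hcP : IsPGroup t (center P) := hP.to_subgroup _
    have hdc : t ∣ orderOf c := hcP.dvd_orderOf hc1
    obtain ⟨z, hz⟩ := exists_orderOf_of_dvd hdc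
    have hzP : orderOf (z : P) = t := by rw [Subgroup.orderOf_coe, hz]
    have key : ∀ x : P, orderOf x = t → x ∈ zpowers (z : P) := by
      intro x hx
      let A : Subgroup G := closure {((z : P) : G), (x : G)}
      have hzx : ((z : P) : G) * x = x * (z : P) := by
        have := mem_center_iff.1 z.2 x
        exact (congrArg Subtype.val this).symm
      have hAc : IsMulCommutative A := by
        have : ∀ a ∈ ({((z : P) : G), (x : G)} : Set G), ∀ b ∈ ({((z : P) : G), (x : G)} : Set G), a * b = b * a := by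
          intro a ha b hb
          rcases ha with rfl | ha <;> rcases hb with rfl | hb
          · rfl
          · rw [Set.mem_singleton_iff.1 hb, hzx]
          · rw [Set.mem_singleton_iff.1 ha, hzx]
          · rw [Set.mem_singleton_iff.1 ha, Set.mem_singleton_iff.1 hb]
        exact isMulCommutative_closure this
      have hAP : A ≤ P := by
        rw [closure_le]
        intro a ha
        rcases ha with rfl | ha
        · exact (z : P).2
        · rw [Set.mem_singleton_iff.1 ha]
          exact x.2
      have hcyc : IsCyclic A := Cfsg.Agent.S0041.result A Z hZ1 (hAP.trans hPZ)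
        (fun a ha => hfpf a (hAP ha)) (Or.inl hAc)
      have hzA : ((z : P) : G) ∈ A := subset_closure (by simp)
      have hxA : (x : G) ∈ A := subset_closure (by simp)
      have h1 : orderOf (⟨((z : P) : G), hzA⟩ : A) = t := by
        rw [← Subgroup.orderOf_coe]
        change orderOf ((z : P) : G) = t
        rw [Subgroup.orderOf_coe, hzP]
      have h2 : orderOf (⟨(x : G), hxA⟩ : A) = t := by
        rw [← Subgroup.orderOf_coe]
        change orderOf (x : G) = t
        rw [Subgroup.orderOf_coe, hx]
      have h3 : zpowers (⟨(x : G), hxA⟩ : A) = zpowers (⟨((z : P) : G), hzA⟩ : A) := by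
        exact eq_of_card_eq h2 h1
      have h4 : (⟨(x : G), hxA⟩ : A) ∈ zpowers (⟨((z : P) : G), hzA⟩ : A) := by
        rw [← h3]
        exact mem_zpowers _
      obtain ⟨k, hk⟩ := mem_zpowers_iff.1 h4
      refine mem_zpowers_iff.2 ⟨k, Subtype.ext ?_⟩
      have := congrArg Subtype.val hk
      simpa using this
    intro x y hx hy
    have h1 : zpowers x = zpowers (z : P) := by
      apply Subgroup.eq_of_le_of_card_ge (by rw [zpowers_le]; exact key x hx)
      rw [Nat.card_zpowers, Nat.card_zpowers, hx, hzP]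
    rw [h1]
    exact key y hy
  by_cases ht2 : t = 2
  · subst ht2
    refine Or.inr ⟨rfl, fun A => ?_⟩
    have hCI : CI P := by
      intro x y hx hy _
      obtain ⟨k, hk⟩ := mem_zpowers_iff.1 (huniq x y hx hy)
      have h1 : x ^ (2 : ℤ) = 1 := by
        rw [zpow_ofNat, ← hx, pow_orderOf_eq_one]
      rcases Int.even_or_odd k with ⟨j, rfl⟩ | ⟨j, rfl⟩
      · exfalso
        rw [← two_mul, zpow_mul, h1, one_zpow] at hk
        rw [← hk, orderOf_one] at hy
        exact absurd hy (by norm_num)
      · rw [zpow_add, zpow_mul, h1, one_zpow, one_mul, zpow_one] at hk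
        exact hk
    exact twoGen_of_unique (hP.to_subgroup A) (hCI.of_injective A.subtype A.subtype_injective)
  · refine Or.inl ⟨ht2, ?_⟩
    have key : ∀ H K : Subgroup P, Nat.card H = t → Nat.card K = t → K ≤ H := by
      intro H K hH hK y hy
      obtain ⟨x, hx⟩ := exists_prime_orderOf_dvd_card' (G := H) t (dvd_of_eq hH.symm)
      have hx' : orderOf (x : P) = t := by rw [Subgroup.orderOf_coe, hx]
      by_cases hy1 : y = 1
      · rw [hy1]
        exact one_mem H
      have hy1' : orderOf y = t := by
        have h1 : (⟨y, hy⟩ : K) ^ Nat.card K = 1 := pow_card_eq_one'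
        rw [hK] at h1
        exact orderOf_eq_prime (congrArg Subtype.val h1) hy1
      obtain ⟨k, hk⟩ := mem_zpowers_iff.mp (huniq _ _ hx' hy1')
      rw [← hk]
      exact zpow_mem x.2 k
    rcases Cfsg.Agent.S0016.result t hP (fun H K hH hK => le_antisymm (key K H hK hH) (key H K hH hK)) with h | h
    · exact h
    · exact absurd h.1 ht2

/-- Lifting a homomorphism through another one. -/
theorem exists_lift {X : Type u} {Y : Type v} {Z : Type w} [Group X] [Group Y] [Group Z] (φ : X →* Y) (f : X →* Z)
    (hker : ∀ x : X, φ x = 1 → f x = 1) : ∃ ψ : φ.range →* Z, ∀ x : X, ψ (φ.rangeRestrict x) = f x := by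
  have h1 : φ.rangeRestrict.ker ≤ f.ker := by
    intro x hx
    rw [MonoidHom.mem_ker] at hx ⊢
    exact hker x (congrArg Subtype.val hx)
  refine ⟨φ.rangeRestrict.liftOfSurjective φ.rangeRestrict_surjective ⟨f, h1⟩, fun x => ?_⟩
  exact MonoidHom.liftOfRightInverse_comp_apply _ _ _ _ _

/-- `t`-subgroups lift to `t`-subgroups. -/
theorem lift_pgroup {X : Type u} {Y : Type v} [Group X] [Group Y] [Finite X] {t : ℕ} [ht : Fact t.Prime] (f : X →* Y)
    (hf : Function.Surjective f) (A : Subgroup Y) (hA : IsPGroup t A) : ∃ P : Subgroup X, IsPGroup t P ∧ P.map f = A := by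
  have hs : Function.Surjective (f.subgroupComap A) := f.subgroupComap_surjective_of_surjective A hf
  let Q : Sylow t (A.comap f) := default
  have h1 : ((Q.mapSurjective hs : Sylow t A) : Subgroup A) = ⊤ :=
    ((Q.mapSurjective hs).is_maximal' (Q := ⊤) (hA.to_subgroup ⊤) le_top).symm
  rw [Sylow.coe_mapSurjective] at h1
  refine ⟨(Q : Subgroup (A.comap f)).map (A.comap f).subtype, Q.isPGroup'.map _, ?_⟩
  rw [Subgroup.map_map]
  have h2 : f.comp (A.comap f).subtype = A.subtype.comp (f.subgroupComap A) := by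
    ext x
    rfl
  rw [h2, ← Subgroup.map_map, h1, ← MonoidHom.range_eq_map, Subgroup.range_subtype]

/-- **Step A.** -/
theorem not_dvd_of {G : Type u} [Group G] [Finite G] {S : Type v} [Group S] {r t : ℕ} (hr : r.Prime) (ht : t.Prime)
    (hrt : r ≠ t) (hno : ∀ g : G, orderOf g ≠ r * t) (V : Subgroup G) [V.Normal] (H : Subgroup G) (f : H →* S)
    (hf : Function.Surjective f) (hker : ∀ x : H, (x : G) ∈ V → f x = 1) (E : Subgroup S) (hE : IsPGroup t E)
    (hEC : ¬ Cy t E) : ¬ r ∣ Nat.card V := by
  intro hrV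
  have := Fact.mk hr
  have := Fact.mk ht
  apply hEC
  let R0 : Sylow r V := default
  obtain ⟨R, hRdef⟩ : ∃ R : Subgroup G, R = (R0 : Subgroup V).map V.subtype := ⟨_, rfl⟩
  have hRp : IsPGroup r R := by rw [hRdef]; exact R0.isPGroup'.map _
  have hR1 : R ≠ ⊥ := by
    rw [hRdef]
    intro h
    have h1 := (Subgroup.map_eq_bot_iff_of_injective _ V.subtype_injective).1 h
    exact R0.ne_bot_of_dvd_card hrV h1
  have hN : normalizer (R : Set G) ⊔ V = ⊤ := by
    rw [hRdef]
    exact Sylow.normalizer_sup_eq_top R0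
  -- the `t`-subgroups
  obtain ⟨E1, hE1, hE1f⟩ := lift_pgroup f hf E hE
  let φ : E1 →* (G ⧸ V) := ((QuotientGroup.mk' V).comp H.subtype).comp E1.subtype
  let g : E1 →* S := f.comp E1.subtype
  have hφt : IsPGroup t φ.range := hE1.of_surjective φ.rangeRestrict φ.rangeRestrict_surjective
  -- lift `φ.range` to the normalizer of `R`
  let f1 : normalizer (R : Set G) →* (G ⧸ V) := (QuotientGroup.mk' V).comp (normalizer (R : Set G)).subtype
  have hf1 : Function.Surjective f1 := by
    intro y
    obtain ⟨x, rfl⟩ := QuotientGroup.mk'_surjective V y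
    have hx : x ∈ normalizer (R : Set G) ⊔ V := by rw [hN]; trivial
    obtain ⟨a, ha, b, hb, rfl⟩ := (Subgroup.mem_sup_of_normal_right).1 hx
    refine ⟨⟨a, ha⟩, ?_⟩
    change QuotientGroup.mk' V a = QuotientGroup.mk' V (a * b)
    have hb1 : QuotientGroup.mk' V b = 1 := (QuotientGroup.eq_one_iff b).2 hb
    rw [map_mul, hb1, mul_one]
  obtain ⟨P, hPt, hPm⟩ := lift_pgroup f1 hf1 φ.range hφt
  have hcy : Cy t (P.map (normalizer (R : Set G)).subtype : Subgroup G) := by
    refine cy_of_fpf hr ht hrt hno (hPt.map _) hRp hR1 ?_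
    rintro _ ⟨x, hx, rfl⟩
    exact x.2
  -- surjection onto `E`
  have hcy1 : Cy t P := hcy.map
    (P.equivMapOfInjective _ (normalizer (R : Set G)).subtype_injective).symm.toMonoidHom
    (MulEquiv.surjective _)
  have hcy2 : Cy t (P.map f1) := hcy1.map (f1.subgroupMap P) (f1.subgroupMap_surjective P)
  rw [hPm] at hcy2
  obtain ⟨ψ, hψ⟩ := exists_lift φ g (by
    intro x hx
    exact hker _ ((QuotientGroup.eq_one_iff _).1 hx))
  have hcy3 : Cy t ψ.range := hcy2.map ψ.rangeRestrict ψ.rangeRestrict_surjective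
  have hrange : ψ.range = E := by
    rw [← hE1f]
    ext y
    constructor
    · rintro ⟨z, rfl⟩
      obtain ⟨x, rfl⟩ := φ.rangeRestrict_surjective z
      rw [hψ]
      exact ⟨(x : H), x.2, rfl⟩
    · rintro ⟨x, hx, rfl⟩
      exact ⟨φ.rangeRestrict ⟨x, hx⟩, hψ _⟩
  rw [hrange] at hcy3
  exact hcy3

/-- An element of prime order `r` moving a centreless subgroup `T` which commutes with its conjugates: an element of
order `r * t`. -/
theorem exists_of_moves {G : Type u} [Group G] [Finite G] {r t : ℕ} (hr : r.Prime) (ht : t.Prime) (hrt : r ≠ t)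
    {T : Subgroup G} (hTc : ∀ z ∈ T, (∀ y ∈ T, Commute z y) → z = 1) {g : G} (hg : orderOf g = r)
    (hcomm : ∀ i : ℕ, 0 < i → i < r → ∀ x ∈ T, ∀ y ∈ T, Commute (g ^ i * x * (g ^ i)⁻¹) y)
    {V : Subgroup G} [V.Normal] (hTV : T ≤ V) (hgV : g ∉ V)
    {x : G} (hx : x ∈ T) (hxt : orderOf x = t) : ∃ w : G, orderOf w = r * t := by
  have key : ∀ k : ℕ, k ≤ r → 1 ≤ k → ∃ c : G, (∀ y ∈ T, Commute c y) ∧ (x * g) ^ k = x * c * g ^ k := by
    intro k
    induction k with
    | zero => intro _ h; omega
    | succ k ih =>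
      intro hk _
      rcases Nat.eq_zero_or_pos k with h0 | h0
      · subst h0
        exact ⟨1, fun y _ => Commute.one_left y, by simp⟩
      · obtain ⟨c, hc, he⟩ := ih (by omega) h0
        refine ⟨c * (g ^ k * x * (g ^ k)⁻¹), fun y hy => (hc y hy).mul_left (hcomm k h0 (by omega) x hx y hy), ?_⟩
        rw [pow_succ, he, pow_succ]
        group
  obtain ⟨c, hc, he⟩ := key r le_rfl hr.one_lt.le
  have hgr : g ^ r = 1 := by rw [← hg, pow_orderOf_eq_one]
  rw [hgr, mul_one] at he
  have hcx : Commute c x := hc x hx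
  have h1 : t ∣ orderOf (x * g) := by
    have h2 : t ∣ orderOf ((x * g) ^ r) := by
      rw [he]
      have h3 : (x * c) ^ orderOf (x * c) = 1 := pow_orderOf_eq_one _
      rw [hcx.symm.mul_pow] at h3
      have h4 : x ^ orderOf (x * c) = 1 := by
        apply hTc _ (T.pow_mem hx _)
        intro y hy
        have h5 : x ^ orderOf (x * c) = (c ^ orderOf (x * c))⁻¹ := eq_inv_of_mul_eq_one_left h3
        rw [h5]
        exact ((hc y hy).pow_left _).inv_left
      rw [← hxt]
      exact orderOf_dvd_of_pow_eq_one h4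
    exact h2.trans (orderOf_pow_dvd r)
  have h2 : r ∣ orderOf (x * g) := by
    have := Fact.mk hr
    have h3 : orderOf (QuotientGroup.mk' V g) = r := by
      apply orderOf_eq_prime
      · rw [← map_pow, hgr, map_one]
      · intro h
        exact hgV ((QuotientGroup.eq_one_iff g).1 h)
    have h4 : QuotientGroup.mk' V (x * g) = QuotientGroup.mk' V g := by
      have hx1 : QuotientGroup.mk' V x = 1 := (QuotientGroup.eq_one_iff x).2 (hTV hx)
      rw [map_mul, hx1, one_mul]
    rw [← h3, ← h4]
    exact orderOf_map_dvd _ _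
  exact exists_orderOf_of_dvd (Nat.Coprime.mul_dvd_of_dvd_of_dvd ((Nat.coprime_primes hr ht).2 hrt) h2 h1)

/-- Automorphisms of order dividing `r`, when `r` divides neither `|S|` nor `|Out S|`. -/
theorem card_mulAut {S : Type v} [Group S] [Finite S] :
    Nat.card (MulAut S) = Nat.card (MulAut.conj : S →* MulAut S).range * (MulAut.conj : S →* MulAut S).range.index :=
  ((MulAut.conj : S →* MulAut S).range.card_mul_index).symm

theorem card_range_conj_dvd {S : Type v} [Group S] [Finite S] :
    Nat.card (MulAut.conj : S →* MulAut S).range ∣ Nat.card S := by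
  exact Subgroup.card_range_dvd _

theorem cy_of_subsingleton {t : ℕ} {X : Type u} [Group X] [Subsingleton X] : Cy t X := by
  by_cases h : t = 2
  · exact Or.inr ⟨h, fun A => ⟨1, 1, Subsingleton.elim _ _⟩⟩
  · exact Or.inl ⟨h, inferInstance⟩

theorem factorization_le_of_dvd {m n r : ℕ} (hn : n ≠ 0) (h : m ∣ n) : m.factorization r ≤ n.factorization r :=
  (Nat.factorization_le_iff_dvd (ne_zero_of_dvd_ne_zero hn h) hn).2 h r

theorem main_aux {r t : ℕ} (hr : r.Prime) (ht : t.Prime) (hrt : r ≠ t) (n : ℕ) :
    ∀ (G : Type u) [Group G] [Finite G], Nat.card G = n → ∀ (H : Subgroup G), H.IsSubnormal →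
      ∀ (S : Type v) [Group S] [Finite S] [IsSimpleGroup S] (f : H →* S), Function.Surjective f →
      (¬ ∀ x y : S, Commute x y) → (∀ g : G, orderOf g ≠ r * t) →
      (∃ E : Subgroup S, IsPGroup t E ∧ ¬ Cy t E) → (¬ r ∣ (MulAut.conj : S →* MulAut S).range.index) →
      (∀ a, (∃ g : G, orderOf g = r ^ a) → ∃ s : S, orderOf s = r ^ a) ∧
        (Nat.card G).factorization r = (Nat.card S).factorization r := by
  have hrF := Fact.mk hr
  have htF := Fact.mk ht
  induction n using Nat.strong_induction_on with
  | _ n ih =>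
  intro G _ _ hGn H hH S _ _ _ f hf hna hno hE hOut
  obtain ⟨E, hEt, hEC⟩ := hE
  have htS : t ∣ Nat.card S := by
    have h1 : t ∣ Nat.card E := by
      rcases hEt.card_eq_or_dvd with h | h
      · exfalso
        have := (Nat.card_eq_one_iff_unique.1 h).1
        exact hEC cy_of_subsingleton
      · exact h
    exact h1.trans (card_subgroup_dvd_card E)
  have hNT : Nontrivial G := by
    by_contra h
    rw [not_nontrivial_iff_subsingleton] at h
    have h1 : Subsingleton S := ⟨fun a b => by
      obtain ⟨x, rfl⟩ := hf a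
      obtain ⟨y, rfl⟩ := hf b
      rw [Subsingleton.elim x y]⟩
    exact hna fun x y => by rw [Subsingleton.elim x y]
  obtain ⟨V, hVn, hV1, hVmin⟩ := Cfsg.Agent.Lib.SubnormalJoin.exists_minimal_normal G
  by_cases hcase : ∀ x : H, (x : G) ∈ V → f x = 1
  · -- case A
    have hrV := not_dvd_of hr ht hrt hno V H f hf hcase E hEt hEC
    let φ : H →* (G ⧸ V) := (QuotientGroup.mk' V).comp H.subtype
    obtain ⟨ψ, hψ⟩ := exists_lift φ f (fun x hx => hcase x ((QuotientGroup.eq_one_iff _).1 hx))
    have hφ : φ.range = H.map (QuotientGroup.mk' V) := by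
      ext y
      constructor
      · rintro ⟨x, rfl⟩
        exact ⟨x, x.2, rfl⟩
      · rintro ⟨x, hx, rfl⟩
        exact ⟨⟨x, hx⟩, rfl⟩
    have hsub : φ.range.IsSubnormal := by
      rw [hφ]
      exact hH.map (QuotientGroup.mk'_surjective V)
    have hψs : Function.Surjective ψ := by
      intro y
      obtain ⟨x, rfl⟩ := hf y
      exact ⟨_, hψ x⟩
    have hcard := V.card_mul_index
    have hVpos : 1 < Nat.card V := (Subgroup.one_lt_card_iff_ne_bot V).2 hV1
    have hlt : Nat.card (G ⧸ V) < n := by
      rw [← Subgroup.index_eq_card, ← hGn, ← hcard]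
      have : 0 < V.index := Nat.pos_of_ne_zero V.index_ne_zero_of_finite
      nlinarith
    have hno' : ∀ g : G ⧸ V, orderOf g ≠ r * t := by
      intro g hg
      obtain ⟨x, hx⟩ := exists_orderOf_of_surjective (QuotientGroup.mk' V) (QuotientGroup.mk'_surjective V) ⟨g, hg⟩
      exact hno x hx
    obtain ⟨h1, h2⟩ := ih _ hlt (G ⧸ V) rfl φ.range hsub S ψ hψs hna hno' ⟨E, hEt, hEC⟩ hOut
    constructor
    · rintro a ⟨g, hg⟩
      apply h1
      refine ⟨QuotientGroup.mk' V g, ?_⟩
      have h3 : orderOf (QuotientGroup.mk' V g) ∣ r ^ a := hg ▸ orderOf_map_dvd _ g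
      obtain ⟨b, hb, hb'⟩ := (Nat.dvd_prime_pow hr).1 h3
      have h4 : g ^ r ^ b ∈ V := by
        rw [← QuotientGroup.eq_one_iff]
        change QuotientGroup.mk' V (g ^ r ^ b) = 1
        rw [map_pow, ← hb', pow_orderOf_eq_one]
      have h5 : orderOf (g ^ r ^ b) ∣ Nat.card V := by
        have := orderOf_dvd_natCard (⟨_, h4⟩ : V)
        rwa [← Subgroup.orderOf_coe] at this
      have h6 : orderOf (g ^ r ^ b) ∣ r ^ a := hg ▸ orderOf_pow_dvd _
      have h7 : orderOf (g ^ r ^ b) = 1 :=
        Nat.eq_one_of_dvd_coprimes ((hr.coprime_iff_not_dvd.2 hrV).pow_left a) h6 h5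
      rw [orderOf_eq_one_iff] at h7
      have h8 : r ^ a ∣ r ^ b := hg ▸ orderOf_dvd_of_pow_eq_one h7
      rw [hb']
      exact Nat.dvd_antisymm (pow_dvd_pow r hb) h8
    · rw [← h2, ← hcard, ← Subgroup.index_eq_card,
        Nat.factorization_mul Nat.card_pos.ne' V.index_ne_zero_of_finite, Finsupp.add_apply,
        Nat.factorization_eq_zero_of_not_dvd hrV, zero_add]
  · -- case B
    push Not at hcase
    obtain ⟨x0, hx0V, hx0⟩ := hcase
    have hU : ∀ s : S, ∃ u : H, (u : G) ∈ V ∧ f u = s := by
      have hUn : ((V.subgroupOf H).map f).Normal := Subgroup.Normal.map inferInstance f hf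
      have h1 : (V.subgroupOf H).map f = ⊤ := by
        rcases hUn.eq_bot_or_eq_top with h | h
        · exfalso
          apply hx0
          have : f x0 ∈ (V.subgroupOf H).map f := ⟨x0, hx0V, rfl⟩
          rwa [h, mem_bot] at this
        · exact h
      intro s
      have h2 : s ∈ (V.subgroupOf H).map f := by rw [h1]; trivial
      obtain ⟨u, hu, rfl⟩ := h2
      exact ⟨u, hu, rfl⟩
    have hVna : ¬ ∀ x ∈ V, ∀ y ∈ V, Commute x y := by
      intro h
      apply hna
      intro x y
      obtain ⟨u, hu, rfl⟩ := hU x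
      obtain ⟨v, hv, rfl⟩ := hU y
      have h1 : u * v = v * u := Subtype.ext (h u hu v hv).eq
      change f u * f v = f v * f u
      rw [← map_mul, h1, map_mul]
    obtain ⟨hne, hind, hsup, hsimp, hcent, hconj⟩ := nonabelian_structure V hVmin hVna
    have hVH : V ≤ normalizer (H : Set G) :=
      Cfsg.Agent.Lib.SubnormalJoin.le_normalizer_of_minimal_normal H V hH hVn hVmin
    obtain ⟨N', hN'⟩ : ∃ N' : Subgroup G, N' = f.ker.map H.subtype := ⟨_, rfl⟩
    have hN's : N'.IsSubnormal := by
      rw [hN']
      exact Subgroup.IsSubnormal.trans' (Subgroup.Normal.isSubnormal inferInstance) hH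
    have hVN' : V ≤ normalizer (N' : Set G) :=
      Cfsg.Agent.Lib.SubnormalJoin.le_normalizer_of_minimal_normal N' V hN's hVn hVmin
    -- a simple factor of `V` inside `H` and not inside `N'`
    obtain ⟨T, hT, hTH, hTN⟩ : ∃ T ∈ minSet V, T ≤ V ⊓ H ∧ ¬ T ≤ N' := by
      by_contra hcon
      push Not at hcon
      have h1 := eq_sSup_of_normal hind (fun _ h => h) hsup hcent (M := V ⊓ H) inf_le_left
        (Cfsg.Agent.Lib.MinNormal.le_normalizer_inf V.le_normalizer hVH)
      have h2 : V ⊓ H ≤ N' := by
        rw [← h1]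
        exact sSup_le fun T hT => hcon T hT.1 hT.2
      have h3 : (x0 : G) ∈ N' := h2 ⟨hx0V, x0.2⟩
      rw [hN'] at h3
      obtain ⟨y, hy, hyx⟩ := h3
      have : y = x0 := Subtype.ext hyx
      rw [this] at hy
      exact hx0 hy
    have hTd : T ⊓ N' = ⊥ := by
      rcases hT.2.2.2 (T ⊓ N') inf_le_left (Cfsg.Agent.Lib.MinNormal.le_normalizer_inf hT.2.2.1 hVN') with h | h
      · exact h
      · exact absurd (inf_eq_left.1 h) hTN
    have hTH' : T ≤ H := hTH.trans inf_le_right
    let fT : T →* S := f.comp (Subgroup.inclusion hTH')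
    have hfT : ∀ x : T, fT x = f ⟨x, hTH' x.2⟩ := fun x => rfl
    have hinj : Function.Injective fT := by
      rw [injective_iff_map_eq_one]
      intro x hx
      have h1 : (x : G) ∈ N' := by
        rw [hN']
        exact ⟨⟨x, hTH' x.2⟩, hx, rfl⟩
      have h2 : (x : G) ∈ T ⊓ N' := ⟨x.2, h1⟩
      rw [hTd, mem_bot] at h2
      exact Subtype.ext h2
    have hsurj : Function.Surjective fT := by
      have hn : fT.range.Normal := by
        refine ⟨?_⟩
        rintro _ ⟨y, rfl⟩ s
        obtain ⟨u, hu, rfl⟩ := hU s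
        have h1 : (u : G) * y * (u : G)⁻¹ ∈ T := (mem_normalizer_iff.1 (hT.2.2.1 hu) y).1 y.2
        refine ⟨⟨_, h1⟩, ?_⟩
        rw [hfT, hfT, ← map_mul, ← map_inv, ← map_mul]
        rfl
      rcases hn.eq_bot_or_eq_top with h | h
      · exfalso
        apply hT.2.1
        rw [eq_bot_iff]
        intro x hx
        have h1 : fT ⟨x, hx⟩ = 1 := by
          have : fT ⟨x, hx⟩ ∈ fT.range := ⟨_, rfl⟩
          rwa [h, mem_bot] at this
        have := hinj (h1.trans (map_one fT).symm)
        exact congrArg Subtype.val this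
      · exact MonoidHom.range_eq_top.1 h
    let e : T ≃* S := MulEquiv.ofBijective fT ⟨hinj, hsurj⟩
    have hcT : Nat.card T = Nat.card S := Nat.card_congr e.toEquiv
    have hTV : T ≤ V := hT.1
    have hcTV : Nat.card S ∣ Nat.card G := hcT ▸ card_subgroup_dvd_card T
    obtain ⟨x, hx⟩ : ∃ x : T, orderOf x = t := exists_prime_orderOf_dvd_card' t (hcT ▸ htS)
    have hxG : orderOf (x : G) = t := by rw [Subgroup.orderOf_coe, hx]
    by_cases hone : ∀ T₂ ∈ minSet V, T₂ = T
    · -- `V = T` is simple
      have hVT : V = T := by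
        apply le_antisymm _ hTV
        rw [← hsup]
        exact sSup_le fun T₂ h₂ => (hone T₂ h₂).le
      subst hVT
      have hker : ¬ r ∣ Nat.card (MulAut.conjNormal : G →* MulAut V).ker := by
        intro h
        obtain ⟨c, hc⟩ := exists_prime_orderOf_dvd_card' r h
        have hcG : orderOf (c : G) = r := by rw [Subgroup.orderOf_coe, hc]
        have h1 : Commute (c : G) x := by
          have h2 := c.2
          rw [MonoidHom.mem_ker] at h2
          have h3 := congrArg Subtype.val (DFunLike.congr_fun h2 x)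
          rw [MulAut.conjNormal_apply, MulAut.one_apply] at h3
          exact (mul_inv_eq_iff_eq_mul.1 h3)
        obtain ⟨w, hw⟩ := exists_orderOf_mul hr ht hrt h1 (by rw [hcG]) (by rw [hxG])
        exact hno w hw
      have hcard : Nat.card G = Nat.card (MulAut.conjNormal : G →* MulAut V).ker *
          Nat.card (MulAut.conjNormal : G →* MulAut V).range := by
        rw [← Subgroup.index_ker, Subgroup.card_mul_index]
      have hle : (Nat.card G).factorization r ≤ (Nat.card S).factorization r := by
        rw [hcard, Nat.factorization_mul Nat.card_pos.ne' Nat.card_pos.ne', Finsupp.add_apply,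
          Nat.factorization_eq_zero_of_not_dvd hker, zero_add]
        refine (factorization_le_of_dvd Nat.card_pos.ne' (card_subgroup_dvd_card _)).trans ?_
        rw [Nat.card_congr (MulAut.congr e).toEquiv, card_mulAut,
          Nat.factorization_mul Nat.card_pos.ne' Subgroup.index_ne_zero_of_finite, Finsupp.add_apply,
          Nat.factorization_eq_zero_of_not_dvd hOut, add_zero]
        exact factorization_le_of_dvd Nat.card_pos.ne' card_range_conj_dvd
      have heq : (Nat.card G).factorization r = (Nat.card S).factorization r :=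
        le_antisymm hle (factorization_le_of_dvd Nat.card_pos.ne' hcTV)
      refine ⟨?_, heq⟩
      rintro a ⟨g, hg⟩
      have hidx : ¬ r ∣ V.index := by
        intro h
        have h1 := V.card_mul_index
        have h2 : (Nat.card G).factorization r = (Nat.card V).factorization r + V.index.factorization r := by
          rw [← h1, Nat.factorization_mul Nat.card_pos.ne' Subgroup.index_ne_zero_of_finite, Finsupp.add_apply]
        rw [heq, hcT] at h2
        have h3 := (hr.dvd_iff_one_le_factorization Subgroup.index_ne_zero_of_finite).1 h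
        omega
      have hgV : g ∈ V := by
        rw [← QuotientGroup.eq_one_iff]
        have h1 : orderOf (g : G ⧸ V) ∣ r ^ a := hg ▸ orderOf_map_dvd (QuotientGroup.mk' V) g
        have h2 : orderOf (g : G ⧸ V) ∣ V.index := orderOf_dvd_natCard _
        exact orderOf_eq_one_iff.1
          (Nat.eq_one_of_dvd_coprimes ((hr.coprime_iff_not_dvd.2 hidx).pow_left a) h1 h2)
      refine ⟨e ⟨g, hgV⟩, ?_⟩
      rw [MulEquiv.orderOf_eq, ← Subgroup.orderOf_coe]
      exact hg
    · -- at least two factors: `r` does not divide `|G|`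
      push Not at hone
      obtain ⟨T₂, hT₂, hne₂⟩ := hone
      have hrG : ¬ r ∣ Nat.card G := by
        intro hrG
        obtain ⟨g, hg⟩ := exists_prime_orderOf_dvd_card' r hrG
        have hcomm : ∀ T₁ ∈ minSet V, ∀ T₂ ∈ minSet V, T₁ ≠ T₂ → ∀ x ∈ T₁, ∀ y ∈ T₂, Commute x y :=
          fun T₁ h₁ T₂ h₂ hne x hx y hy => Cfsg.Agent.Lib.MinNormal.commute_of_mem hind
            (fun S hS => hS.2.2.1) (fun S hS => hS.1) h₁ h₂ hne hx hy
        by_cases hrS : r ∣ Nat.card S
        · obtain ⟨y, hy⟩ : ∃ y : T, orderOf y = r := exists_prime_orderOf_dvd_card' r (hcT ▸ hrS)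
          obtain ⟨k, hk⟩ := hconj T hT T₂ hT₂
          have h1 : k * (x : G) * k⁻¹ ∈ T₂ := by
            rw [hk]
            exact ⟨x, x.2, rfl⟩
          have h2 := hcomm T hT T₂ hT₂ (Ne.symm hne₂) y y.2 _ h1
          have h3 : orderOf (k * (x : G) * k⁻¹) = t := by
            rw [← hxG]
            exact MulEquiv.orderOf_eq (MulAut.conj k) (x : G)
          obtain ⟨w, hw⟩ := exists_orderOf_mul hr ht hrt h2 (by rw [Subgroup.orderOf_coe, hy]) (by rw [h3])
          exact hno w hw
        · by_cases hgT : g ∈ normalizer (T : Set G)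
          · -- `g` acts trivially on `T`
            have hca : ¬ r ∣ Nat.card (MulAut T) := by
              rw [Nat.card_congr (MulAut.congr e).toEquiv, card_mulAut, hr.dvd_mul]
              rintro (h | h)
              · exact hrS (h.trans card_range_conj_dvd)
              · exact hOut h
            have h1 : (normalizerMonoidHom T ⟨g, hgT⟩ : MulAut T) = 1 := by
              rw [← orderOf_eq_one_iff]
              refine Nat.eq_one_of_dvd_coprimes (hr.coprime_iff_not_dvd.2 hca) ?_ (orderOf_dvd_natCard _)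
              have h2 := orderOf_map_dvd (normalizerMonoidHom T) ⟨g, hgT⟩
              rwa [Subgroup.orderOf_mk, hg] at h2
            have h3 : Commute g (x : G) := by
              have h4 := congrArg Subtype.val (DFunLike.congr_fun h1 x)
              have h5 : g * (x : G) * g⁻¹ = x := h4
              exact mul_inv_eq_iff_eq_mul.1 h5
            obtain ⟨w, hw⟩ := exists_orderOf_mul hr ht hrt h3 (by rw [hg]) (by rw [hxG])
            exact hno w hw
          · have hgV : g ∉ V := fun h => hgT (hT.2.2.1 h)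
            have hmv : ∀ i : ℕ, 0 < i → i < r → T.map (MulAut.conj (g ^ i)).toMonoidHom ≠ T := by
              intro i hi hir h
              apply hgT
              have h1 : g ^ i ∈ normalizer (T : Set G) := by
                rw [mem_normalizer_iff]
                intro y
                constructor
                · intro hy
                  rw [← h]
                  exact ⟨y, hy, rfl⟩
                · intro hy
                  rw [← h] at hy
                  obtain ⟨z, hz, hzy⟩ := hy
                  have : z = y := (MulAut.conj (g ^ i)).injective hzy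
                  exact this ▸ hz
              have h2 : Nat.Coprime i r := ((hr.coprime_iff_not_dvd.2
                (fun h => absurd (Nat.le_of_dvd hi h) (by omega)))).symm
              rw [← hg] at h2
              obtain ⟨m, hm⟩ := exists_pow_eq_self_of_coprime h2
              rw [← hm]
              exact pow_mem h1 m
            obtain ⟨w, hw⟩ := exists_of_moves hr ht hrt (hcent T hT) hg (fun i hi hir x hx y hy =>
              hcomm _ (map_conj_mem_minSet hT (g ^ i)) T hT (hmv i hi hir) _ ⟨x, hx, rfl⟩ y hy) hTV hgV x.2 hxG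
            exact hno w hw
      have hrS : ¬ r ∣ Nat.card S := fun h => hrG (h.trans hcTV)
      refine ⟨?_, ?_⟩
      · rintro a ⟨g, hg⟩
        have h1 : r ^ a ∣ Nat.card G := hg ▸ orderOf_dvd_natCard g
        rcases Nat.eq_zero_or_pos a with rfl | h0
        · exact ⟨1, by rw [orderOf_one, pow_zero]⟩
        · exact absurd ((dvd_pow_self r h0.ne').trans h1) hrG
      · rw [Nat.factorization_eq_zero_of_not_dvd hrG, Nat.factorization_eq_zero_of_not_dvd hrS]

/-- **Composition factors with a noncyclic `t`-subgroup and primes not joined to `t`.** -/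
theorem main {r t : ℕ} (hr : r.Prime) (ht : t.Prime) (hrt : r ≠ t) {G : Type u} [Group G] [Finite G]
    {H : Subgroup G} (hH : H.IsSubnormal) {S : Type v} [Group S] [Finite S] [IsSimpleGroup S] (f : H →* S)
    (hf : Function.Surjective f) (hna : ¬ ∀ x y : S, Commute x y) (hno : ∀ g : G, orderOf g ≠ r * t)
    (hE : ∃ E : Subgroup S, IsPGroup t E ∧ ¬ Cy t E) (hOut : ¬ r ∣ (MulAut.conj : S →* MulAut S).range.index) :
    (∀ a, (∃ g : G, orderOf g = r ^ a) → ∃ s : S, orderOf s = r ^ a) ∧
        (Nat.card G).factorization r = (Nat.card S).factorization r :=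
  main_aux hr ht hrt _ G rfl H hH S f hf hna hno hE hOut

end Cfsg.Agent.H390.Chief
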