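import Mathlib
import Cfsg.Agent.H390.Chief
import Cfsg.Agent.S2119
import Cfsg.Agent.H824.ProdLem
import Cfsg.Agent.S0144

/-!
# Alternating groups: noncyclic `t`-subgroups, outer automorphisms (helper390)
-/

set_option autoImplicit false

namespace Cfsg.Agent.H390

open Subgroup Equiv Equiv.Perm
open scoped Nat

/-! ### noncyclic subgroups -/

/-- two copies of `ℤ / t` acting on `Fin k` -/
theorem exists_perm_hom {t k : ℕ} [NeZero t] (h : 2 * t ≤ k) :
    ∃ ff : Multiplicative (ZMod t) × Multiplicative (ZMod t) →* Perm (Fin k), Function.Injective ff := by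
  let a : Multiplicative (ZMod t) →* Perm (ZMod t) := MulAction.toPermHom (Multiplicative (ZMod t)) (ZMod t)
  have ha : Function.Injective a := by
    intro x y hxy
    have h1 := congrArg (fun f : Perm (ZMod t) => f 0) hxy
    change Multiplicative.toAdd x + 0 = Multiplicative.toAdd y + 0 at h1
    rw [add_zero, add_zero] at h1
    exact Multiplicative.toAdd.injective h1
  let b : Multiplicative (ZMod t) × Multiplicative (ZMod t) →* Perm (ZMod t ⊕ ZMod t) :=
    (Equiv.Perm.sumCongrHom (ZMod t) (ZMod t)).comp (a.prodMap a)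
  have hb : Function.Injective b :=
    Equiv.Perm.sumCongrHom_injective.comp (Function.Injective.prodMap ha ha)
  have hcard : Fintype.card (ZMod t ⊕ ZMod t) ≤ Fintype.card (Fin k) := by
    rw [Fintype.card_sum, ZMod.card, Fintype.card_fin]
    omega
  obtain ⟨ι⟩ := Function.Embedding.nonempty_of_card_le hcard
  exact ⟨(Equiv.Perm.viaEmbeddingHom ι).comp b, (Equiv.Perm.viaEmbeddingHom_injective ι).comp hb⟩

theorem not_isCyclic_prod {t : ℕ} (ht : t.Prime) : ¬ IsCyclic (Multiplicative (ZMod t) × Multiplicative (ZMod t)) := by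
  intro h
  have := Fact.mk ht
  obtain ⟨g, hg⟩ := h.exists_generator
  have h1 : orderOf g = t * t := by
    rw [orderOf_eq_card_of_forall_mem_zpowers hg, Nat.card_prod, Nat.card_eq_fintype_card]
    simp [ZMod.card]
  have h2 : g ^ t = 1 := by
    have h3 : ∀ x : Multiplicative (ZMod t), x ^ t = 1 := fun x => by
      rw [← ofAdd_toAdd x, ← ofAdd_nsmul]
      simp
    ext1
    · exact h3 _
    · exact h3 _
  have h4 := Nat.le_of_dvd ht.pos (orderOf_dvd_of_pow_eq_one h2)
  rw [h1] at h4
  have := ht.two_le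
  nlinarith

/-- noncyclic `t`-subgroups of `A_k`, `2 t ≤ k` -/
theorem alt_noncyclic {t k : ℕ} (ht : t.Prime) (ht2 : t ≠ 2) (h : 2 * t ≤ k) :
    ∃ E : Subgroup (alternatingGroup (Fin k)), IsPGroup t E ∧ ¬ Chief.Cy t E := by
  have := Fact.mk ht
  obtain ⟨ff, hff⟩ := exists_perm_hom (t := t) h
  have hpow : ∀ x : Multiplicative (ZMod t) × Multiplicative (ZMod t), x ^ t = 1 := by
    intro g
    have h3 : ∀ x : Multiplicative (ZMod t), x ^ t = 1 := fun x => by
      rw [← ofAdd_toAdd x, ← ofAdd_nsmul]
      simp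
    ext1
    · exact h3 _
    · exact h3 _
  have hmem : ∀ x, ff x ∈ alternatingGroup (Fin k) := by
    intro x
    rw [mem_alternatingGroup]
    have h1 : sign (ff x) ^ t = 1 := by rw [← map_pow, ← map_pow, hpow, map_one, map_one]
    rcases Int.units_eq_one_or (sign (ff x)) with h2 | h2
    · exact h2
    · rw [h2, (ht.odd_of_ne_two ht2).neg_one_pow] at h1
      exact absurd h1 (by decide)
  let ψ : Multiplicative (ZMod t) × Multiplicative (ZMod t) →* alternatingGroup (Fin k) := ff.codRestrict _ hmem
  have hψ : Function.Injective ψ := fun x y hxy => hff (congrArg Subtype.val hxy)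
  refine ⟨ψ.range, ?_, ?_⟩
  · rintro ⟨x, y, rfl⟩
    refine ⟨1, ?_⟩
    apply Subtype.ext
    rw [pow_one]
    change (ψ y) ^ t = 1
    rw [← map_pow, hpow, map_one]
  · rintro (⟨-, hc⟩ | ⟨hc, -⟩)
    · apply not_isCyclic_prod ht
      exact (MonoidHom.ofInjective hψ).isCyclic.2 hc
    · exact ht2 hc

/-! ### factorials -/

theorem not_sq_dvd_factorial {r k : ℕ} (hr : r.Prime) (hk : k < 2 * r) : ¬ r ^ 2 ∣ k ! := by
  intro h
  have hlog : Nat.log r k < 2 := by
    rcases Nat.eq_zero_or_pos k with rfl | hk0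
    · simp
    · apply Nat.log_lt_of_lt_pow (by omega)
      have := hr.two_le
      nlinarith
  rw [hr.pow_dvd_factorial_iff hlog] at h
  have : Finset.Ico 1 2 = {1} := by decide
  rw [this, Finset.sum_singleton, pow_one] at h
  have h2 : k / r < 2 := Nat.div_lt_of_lt_mul (by omega)
  omega

/-! ### outer automorphisms -/

theorem card_alt (k : ℕ) (hk : 2 ≤ k) : 2 * Nat.card (alternatingGroup (Fin k)) = k ! := by
  have : Nontrivial (Fin k) := Fin.nontrivial_iff_two_le.2 hk
  rw [Nat.card_eq_fintype_card]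
  have := two_mul_card_alternatingGroup (α := Fin k)
  rw [this, Fintype.card_perm, Fintype.card_fin]

theorem alt_index {k : ℕ} (hk : 5 ≤ k) (hs : IsSimpleGroup (alternatingGroup (Fin k)))
    (hna : ¬ ∀ x y : alternatingGroup (Fin k), Commute x y) {r : ℕ} (hr : r.Prime) (hr2 : r ≠ 2) :
    ¬ r ∣ (MulAut.conj : alternatingGroup (Fin k) →* MulAut (alternatingGroup (Fin k))).range.index := by
  have hinj : Function.Injective (MulAut.conj : alternatingGroup (Fin k) →* MulAut (alternatingGroup (Fin k))) := by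
    rw [← MonoidHom.ker_eq_bot_iff]
    rcases (MulAut.conj : alternatingGroup (Fin k) →* MulAut (alternatingGroup (Fin k))).normal_ker.eq_bot_or_eq_top
      with h | h
    · exact h
    · exfalso
      apply hna
      intro x y
      have h1 : MulAut.conj x = 1 := by
        rw [← MonoidHom.mem_ker, h]
        exact mem_top _
      have h2 := DFunLike.congr_fun h1 y
      rw [MulAut.conj_apply, MulAut.one_apply] at h2
      exact mul_inv_eq_iff_eq_mul.1 h2
  have h1 := (MulAut.conj : alternatingGroup (Fin k) →* MulAut (alternatingGroup (Fin k))).range.card_mul_index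
  rw [← Nat.card_congr (MonoidHom.ofInjective hinj).toEquiv] at h1
  have h2 := card_alt k (by omega)
  have hpos : 0 < Nat.card (alternatingGroup (Fin k)) := Nat.card_pos
  by_cases h6 : k = 6
  · subst h6
    rw [Cfsg.Agent.H824.ProdLem.card_aut_a6] at h1
    have h3 : (6 : ℕ)! = 720 := by decide
    rw [h3] at h2
    have h4 : (MulAut.conj : alternatingGroup (Fin 6) →* MulAut (alternatingGroup (Fin 6))).range.index = 4 := by
      have h5 : Nat.card (alternatingGroup (Fin 6)) = 360 := by omega
      rw [h5] at h1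
      omega
    rw [h4]
    intro h5
    have h7 : r ∣ 2 ^ 2 := h5
    exact hr2 ((Nat.prime_dvd_prime_iff_eq hr Nat.prime_two).1 (hr.dvd_of_dvd_pow h7))
  · have h3 := Nat.card_congr (Equiv.ofBijective _ (Cfsg.Agent.S2119.result k (by omega) h6))
    have h3' : Nat.card (Perm (Fin k)) = k ! := by
      rw [Nat.card_eq_fintype_card, Fintype.card_perm, Fintype.card_fin]
    rw [← h3, h3', ← h2, mul_comm 2] at h1
    have h4 := Nat.eq_of_mul_eq_mul_left hpos h1
    rw [h4]
    intro h5
    exact hr2 ((Nat.prime_dvd_prime_iff_eq hr Nat.prime_two).1 h5)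

/-- nonabelian simple alternating groups have degree at least five -/
theorem five_le {k : ℕ} (hs : IsSimpleGroup (alternatingGroup (Fin k)))
    (hna : ¬ ∀ x y : alternatingGroup (Fin k), Commute x y) : 5 ≤ k := by
  by_contra hcon
  push Not at hcon
  have hcard : ∃ a b, Nat.card (alternatingGroup (Fin k)) = 2 ^ a * 3 ^ b := by
    rcases Nat.lt_or_ge k 2 with h | h
    · have : Subsingleton (Perm (Fin k)) := by
        have : Subsingleton (Fin k) := Fin.subsingleton_iff_le_one.2 (by omega)
        infer_instance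
      exact ⟨0, 0, by rw [Nat.card_eq_one_iff_unique.2 ⟨inferInstance, ⟨1⟩⟩]; norm_num⟩
    · have h2 := card_alt k h
      interval_cases k
      · exact ⟨0, 0, by rw [show (2 : ℕ)! = 2 by decide] at h2; omega⟩
      · exact ⟨0, 1, by rw [show (3 : ℕ)! = 6 by decide] at h2; omega⟩
      · exact ⟨2, 1, by rw [show (4 : ℕ)! = 24 by decide] at h2; omega⟩
  have hsol : Group.IsSolvable (alternatingGroup (Fin k)) := by
    obtain ⟨a, b, h⟩ := hcard
    exact Cfsg.Agent.S0144.result 2 3 a b Nat.prime_two Nat.prime_three h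
  apply hna
  intro x y
  exact (IsSimpleGroup.comm_iff_isSolvable.2 hsol) x y

end Cfsg.Agent.H390
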