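import Mathlib
import Cfsg.Agent.H390.Twelve
import Cfsg.Agent.H150.FarSp

/-!
# The prime graph of `PSp₄(q)`: the component `R₄(q)` (helper390)
-/

set_option autoImplicit false

namespace Cfsg.Agent.H390

open Module Cfsg Matrix

section

variable {F : Type} [Field F] [Fintype F]

/-- primes dividing `q ^ 2 + 1`, odd -/
theorem orderOf_four {q a : ℕ} (ha : a.Prime) (ha2 : a ≠ 2) (h : a ∣ q ^ 2 + 1) : orderOf (q : ZMod a) = 4 := by
  have := Fact.mk ha
  have h1 : (q : ZMod a) ^ 2 = -1 := by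
    have h2 : ((q ^ 2 + 1 : ℕ) : ZMod a) = 0 := (ZMod.natCast_eq_zero_iff _ _).2 h
    push_cast at h2
    exact eq_neg_of_add_eq_zero_left h2
  refine orderOf_zmod ha (by norm_num) ?_ fun p hp hpe => ?_
  · calc (q : ZMod a) ^ 4 = ((q : ZMod a) ^ 2) ^ 2 := by ring
      _ = 1 := by rw [h1]; ring
  · have h2 : p ∣ 2 ^ 2 := hpe
    rw [(Nat.prime_dvd_prime_iff_eq hp Nat.prime_two).1 (hp.dvd_of_dvd_pow h2)]
    change (q : ZMod a) ^ 2 ≠ 1
    rw [h1]
    have : Fact (2 < a) := ⟨by have := ha.two_le; omega⟩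
    exact ZMod.neg_one_ne_one

theorem dvd_sq_add_one {q a : ℕ} (ha : a.Prime) (h : orderOf (q : ZMod a) = 4) : a ∣ q ^ 2 + 1 := by
  have := Fact.mk ha
  rw [← ZMod.natCast_eq_zero_iff]
  push_cast
  have h1 : (q : ZMod a) ^ 4 = 1 := by rw [← h]; exact pow_orderOf_eq_one _
  have h2 : ((q : ZMod a) ^ 2 - 1) * ((q : ZMod a) ^ 2 + 1) = 0 := by
    linear_combination h1
  rcases mul_eq_zero.1 h2 with h3 | h3
  · exfalso
    have h4 := orderOf_dvd_of_pow_eq_one (sub_eq_zero.1 h3)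
    rw [h] at h4
    exact absurd (Nat.le_of_dvd (by norm_num) h4) (by norm_num)
  · exact h3

theorem psp2_card_dvd {b : ℕ} (hb : b.Prime) (hb2 : b ≠ 2) (h : b ∣ Nat.card F * (Nat.card F ^ 4 - 1)) :
    b ∣ Nat.card (PSp 2 F) := by
  have hq : Nat.card F = Fintype.card F := Nat.card_eq_fintype_card
  have h1 : b ∣ Nat.card (Matrix.symplecticGroup (Fin 2) F) := by
    rw [Cfsg.Agent.S0245.result (F := F) rfl 2, ← hq]
    rcases hb.dvd_mul.1 h with h2 | h2
    · exact Dvd.dvd.mul_right (dvd_pow h2 (by norm_num)) _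
    · apply Dvd.dvd.mul_left
      rw [Finset.prod_range_succ]
      exact Dvd.dvd.mul_left h2 _
  have := Fact.mk hb
  obtain ⟨y, hy⟩ := exists_prime_orderOf_dvd_card' b h1
  obtain ⟨x, hx⟩ := Lift.desc_odd _ (fun z hz => Cfsg.Agent.H376.SpEmb.center_pow z hz) (hb.odd_of_ne_two hb2) ⟨y, hy⟩
  rw [← hx]
  exact orderOf_dvd_natCard x

theorem psp2_prime (hF : 3 ≤ Fintype.card F) {p : ℕ} (hp : p.Prime) (hc : CharP F p) {b : ℕ} (hb : b.Prime)
    (h : b ∣ Nat.card (PSp 2 F)) : b = p ∨ b ∣ Nat.card F ^ 4 - 1 := by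
  have hf := sp_facts (F := F) (n := 2) (p := p) le_rfl (fun _ => hF) hp hc (e := 4) (by norm_num)
    (Or.inr ⟨⟨2, rfl⟩, rfl⟩) (by
      refine ⟨fun _ => ⟨2, by omega⟩, fun h2 t ht h3 => ?_⟩
      obtain rfl : 2 = t := by omega
      revert ht
      decide)
  rcases hf.f3 b hb h with h1 | ⟨i, h1, h2, h3⟩
  · exact Or.inl h1
  · right
    refine h3.trans ?_
    have hi : 2 * i ∣ 4 := by
      have : i = 1 ∨ i = 2 := by omega
      rcases this with rfl | rfl <;> decide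
    exact Nat.pow_sub_one_dvd_pow_sub_one _ hi

/-- the orders of `q` modulo the other primes -/
theorem ord_le_two {q b : ℕ} (hq : 1 ≤ q) (hb : b.Prime) (h : b ∣ q ^ 4 - 1) (hn : ¬ (b ≠ 2 ∧ b ∣ q ^ 2 + 1)) (hb2 : b ≠ 2) :
    orderOf (q : ZMod b) = 1 ∨ orderOf (q : ZMod b) = 2 := by
  have := Fact.mk hb
  have h1 : (q : ZMod b) ^ 4 = 1 := by
    rw [← Nat.cast_pow, ← Nat.cast_one, ZMod.natCast_eq_natCast_iff]
    exact ((Nat.modEq_iff_dvd' (Nat.one_le_pow _ _ hq)).2 h).symm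
  have h2 := orderOf_dvd_of_pow_eq_one h1
  have h3 : orderOf (q : ZMod b) ≤ 4 := Nat.le_of_dvd (by norm_num) h2
  have h4 : orderOf (q : ZMod b) ≠ 4 := fun h5 => hn ⟨hb2, dvd_sq_add_one hb h5⟩
  have h0 : 0 < orderOf (q : ZMod b) := Nat.pos_of_dvd_of_pos h2 (by norm_num)
  have h5 : orderOf (q : ZMod b) ≠ 3 := by
    intro h6
    rw [h6] at h2
    revert h2
    decide
  omega

/-- **`R₄(q)` is isolated in the prime graph of `PSp₄(q)`.** -/
theorem psp2_graph (hF : 3 ≤ Fintype.card F) {a b : ℕ} (ha : a.Prime) (ha2 : a ≠ 2) (h : a ∣ Nat.card F ^ 2 + 1)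
    (hb : b.Prime) (hbL : b ∣ Nat.card (PSp 2 F)) (hn : ¬ (b ≠ 2 ∧ b ∣ Nat.card F ^ 2 + 1)) (g : PSp 2 F) :
    orderOf g ≠ a * b := by
  obtain ⟨p, hc⟩ := CharP.exists F
  have hp : p.Prime := CharP.char_is_prime F p
  have := Fact.mk hp
  obtain ⟨f, hf⟩ := FiniteField.card F p
  have hqe : Nat.card F = Fintype.card F := Nat.card_eq_fintype_card
  have hord := orderOf_four ha ha2 h
  obtain ⟨-, ha3, haq, -, -⟩ := prim_cond ha hord (by norm_num)
  have hap : a ≠ p := by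
    rintro rfl
    apply haq
    rw [hqe, hf.2]
    exact dvd_pow_self _ f.pos.ne'
  have haL : a ∣ Nat.card (PSp 2 F) := by
    apply psp2_card_dvd ha ha2
    apply Dvd.dvd.mul_left
    have : Nat.card F ^ 4 - 1 = (Nat.card F ^ 2 + 1) * (Nat.card F ^ 2 - 1) := by
      have h1 : 1 ≤ Nat.card F ^ 2 := Nat.one_le_pow _ _ (by omega)
      zify [h1, Nat.one_le_pow 4 (Nat.card F) (by omega)]
      ring
    rw [this]
    exact h.mul_right _
  intro hg
  by_cases hbp : b = p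
  · subst hbp
    have h1 := (Cfsg.Agent.S2472.result (F := F) b 2 le_rfl (fun _ => hF) a ha ha2 hap haL 4 2
      (by rw [← hqe, hord]) (Or.inr ⟨by decide, rfl⟩)).2 (by norm_num)
    exact h1 ⟨g, hg⟩
  · have hdvd : b ∣ Nat.card F ^ 4 - 1 := (psp2_prime hF hp hc hb hbL).resolve_left hbp
    by_cases hb2 : b = 2
    · subst hb2
      have h2 : (2 : F) ≠ 0 := by
        intro h3
        apply hbp
        have h4 : ((2 : ℕ) : F) = 0 := by exact_mod_cast h3
        rw [CharP.cast_eq_zero_iff F p] at h4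
        exact ((Nat.prime_dvd_prime_iff_eq hp Nat.prime_two).1 h4).symm
      have hodd : Odd (Nat.card F) := by
        rw [hqe, hf.2]
        exact (hp.odd_of_ne_two (fun h => hbp h.symm)).pow
      have h4 : Nat.card F ^ 2 % 4 = 1 := by
        rcases Nat.odd_mod_four_iff.1 (Nat.odd_iff.1 hodd) with h5 | h5 <;> rw [Nat.pow_mod, h5]
      exact Cfsg.Agent.H150.psp_far_plus h2 (n := 2) (by norm_num) ha ha2 (natCast_ne_zero ha haq) hord h h4 g
        (by rw [hg, mul_comm])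
    · have hk := ord_le_two (q := Nat.card F) (by omega) hb hdvd hn hb2
      have hab : b ≠ a := by
        rintro rfl
        exact hn ⟨hb2, h⟩
      have h1 := (Cfsg.Agent.S2469.result (F := F) p 2 le_rfl (fun _ => hF) b a hb ha hb2 ha2 hbp hap hab hbL haL
        (orderOf ((Nat.card F : ℕ) : ZMod b)) 4 1 2 (by rw [← hqe]) (by rw [← hqe, hord]) (by
          rcases hk with h5 | h5
          · rw [h5]; exact Or.inl ⟨by decide, rfl⟩
          · rw [h5]; exact Or.inr ⟨by decide, rfl⟩) (Or.inr ⟨by decide, rfl⟩) (by norm_num)).2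
        ⟨by norm_num, by
          rintro ⟨t, ⟨u, hu⟩, ht⟩
          rcases hk with h5 | h5
          · rw [h5] at ht
            omega
          · rw [h5] at ht
            omega⟩
      exact h1 ⟨g, by rw [hg, mul_comm]⟩

theorem three_not_dvd (q : ℕ) : ¬ 3 ∣ q ^ 2 + 1 := by
  intro h
  have h1 : (q ^ 2 + 1) % 3 = 0 := Nat.mod_eq_zero_of_dvd h
  have h2 : q % 3 = 0 ∨ q % 3 = 1 ∨ q % 3 = 2 := by omega
  rcases h2 with h3 | h3 | h3 <;> simp [Nat.add_mod, Nat.pow_mod, h3] at h1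

/-- `15 ∈ ω(PSp₄(q))` if `5 ∤ q ^ 2 + 1` -/
theorem psp2_fifteen (hF : 3 ≤ Fintype.card F) (h5 : ¬ 5 ∣ Nat.card F ^ 2 + 1) : ∃ g : PSp 2 F, orderOf g = 15 := by
  obtain ⟨p, hc⟩ := CharP.exists F
  have hp : p.Prime := CharP.char_is_prime F p
  have := Fact.mk hp
  obtain ⟨f, hf⟩ := FiniteField.card F p
  have hqe : Nat.card F = Fintype.card F := Nat.card_eq_fintype_card
  have hpow : ∀ b : ℕ, b.Prime → b ≠ p → ¬ b ∣ Nat.card F := by
    intro b hb hbp h
    rw [hqe, hf.2] at h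
    exact hbp ((Nat.prime_dvd_prime_iff_eq hb hp).1 (hb.dvd_of_dvd_pow h))
  have hpq : p ∣ Nat.card F := by
    rw [hqe, hf.2]
    exact dvd_pow_self _ f.pos.ne'
  have p3 : Nat.Prime 3 := by norm_num
  have p5 : Nat.Prime 5 := by norm_num
  -- divisibility
  have hd : ∀ b : ℕ, b.Prime → b ≠ p → (b - 1 ∣ 4) → b ∣ Nat.card F ^ 4 - 1 := by
    intro b hb hbp h4
    have := Fact.mk hb
    have h1 : b ∣ Nat.card F ^ (b - 1) - 1 := by
      have h2 : ((Nat.card F : ℕ) : ZMod b) ≠ 0 := by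
        rw [Ne, ZMod.natCast_eq_zero_iff]
        exact hpow b hb hbp
      have h3 := ZMod.pow_card_sub_one_eq_one h2
      have h4' : ((Nat.card F ^ (b - 1) : ℕ) : ZMod b) = ((1 : ℕ) : ZMod b) := by
        push_cast
        exact h3
      rw [ZMod.natCast_eq_natCast_iff] at h4'
      exact (Nat.modEq_iff_dvd' (Nat.one_le_pow _ _ (by omega))).1 h4'.symm
    exact h1.trans (Nat.pow_sub_one_dvd_pow_sub_one _ h4)
  have hcard : ∀ b : ℕ, b.Prime → b ≠ 2 → (b - 1 ∣ 4) → b ∣ Nat.card (PSp 2 F) := by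
    intro b hb hb2 h4
    apply psp2_card_dvd hb hb2
    by_cases hbp : b = p
    · subst hbp
      exact Dvd.dvd.mul_right hpq _
    · exact Dvd.dvd.mul_left (hd b hb hbp h4) _
  have hk : ∀ b : ℕ, b.Prime → b ≠ 2 → b ≠ p → (b - 1 ∣ 4) → ¬ b ∣ Nat.card F ^ 2 + 1 →
      (Odd (orderOf ((Nat.card F : ℕ) : ZMod b)) ∧ 1 = orderOf ((Nat.card F : ℕ) : ZMod b)) ∨
        (Even (orderOf ((Nat.card F : ℕ) : ZMod b)) ∧ 2 * 1 = orderOf ((Nat.card F : ℕ) : ZMod b)) := by
    intro b hb hb2 hbp h4 hn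
    rcases ord_le_two (q := Nat.card F) (by omega) hb (hd b hb hbp h4) (fun h => hn h.2) hb2 with h5 | h5
    · rw [h5]; exact Or.inl ⟨by decide, rfl⟩
    · rw [h5]; exact Or.inr ⟨by decide, rfl⟩
  by_cases hp3 : p = 3
  · subst hp3
    by_contra hcon
    have h1 := (Cfsg.Agent.S2472.result (F := F) 3 2 le_rfl (fun _ => hF) 5 p5 (by norm_num) (by norm_num)
      (hcard 5 p5 (by norm_num) (by norm_num)) (orderOf ((Nat.card F : ℕ) : ZMod 5)) 1 (by rw [← hqe])
      (hk 5 p5 (by norm_num) (by norm_num) (by norm_num) h5)).1 (by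
        rintro ⟨g, hg⟩
        exact hcon ⟨g, hg⟩)
    omega
  by_cases hp5 : p = 5
  · subst hp5
    by_contra hcon
    have h1 := (Cfsg.Agent.S2472.result (F := F) 5 2 le_rfl (fun _ => hF) 3 p3 (by norm_num) (by norm_num)
      (hcard 3 p3 (by norm_num) (by norm_num)) (orderOf ((Nat.card F : ℕ) : ZMod 3)) 1 (by rw [← hqe])
      (hk 3 p3 (by norm_num) (by norm_num) (by norm_num) (three_not_dvd _))).1 (by
        rintro ⟨g, hg⟩
        exact hcon ⟨g, hg⟩)
    omega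
  by_contra hcon
  have h1 := (Cfsg.Agent.S2469.result (F := F) p 2 le_rfl (fun _ => hF) 3 5 p3 p5 (by norm_num) (by norm_num)
    (fun h => hp3 h.symm) (fun h => hp5 h.symm) (by norm_num) (hcard 3 p3 (by norm_num) (by norm_num))
    (hcard 5 p5 (by norm_num) (by norm_num)) (orderOf ((Nat.card F : ℕ) : ZMod 3)) (orderOf ((Nat.card F : ℕ) : ZMod 5)) 1 1
    (by rw [← hqe]) (by rw [← hqe]) (hk 3 p3 (by norm_num) (fun h => hp3 h.symm) (by norm_num) (three_not_dvd _))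
    (hk 5 p5 (by norm_num) (fun h => hp5 h.symm) (by norm_num) h5) le_rfl).1 (by
      rintro ⟨g, hg⟩
      exact hcon ⟨g, hg⟩)
  omega

/-- prime powers dividing `q ^ 2 + 1` -/
theorem psp2_pow (hF : 3 ≤ Fintype.card F) {a c : ℕ} (ha : a.Prime) (ha2 : a ≠ 2) (h : a ∣ Nat.card F ^ 2 + 1)
    (hc' : a ^ c ∣ Nat.card F ^ 2 + 1) : ∃ g : PSp 2 F, orderOf g = a ^ c := by
  obtain ⟨p, hc⟩ := CharP.exists F
  have hp : p.Prime := CharP.char_is_prime F p
  have hqe : Nat.card F = Fintype.card F := Nat.card_eq_fintype_card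
  have hf := sp_facts (F := F) (n := 2) (p := p) le_rfl (fun _ => hF) hp hc (e := 4) (by norm_num)
    (Or.inr ⟨⟨2, rfl⟩, rfl⟩) (by
      refine ⟨fun _ => ⟨2, by omega⟩, fun h2 t ht h3 => ?_⟩
      obtain rfl : 2 = t := by omega
      revert ht
      decide)
  refine hf.f2 a c ha (orderOf_four ha ha2 h) (hc'.trans ?_)
  have : Nat.card F ^ 4 - 1 = (Nat.card F ^ 2 + 1) * (Nat.card F ^ 2 - 1) := by
    have h1 : 1 ≤ Nat.card F ^ 2 := Nat.one_le_pow _ _ (by omega)
    zify [h1, Nat.one_le_pow 4 (Nat.card F) (by omega)]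
    ring
  rw [this]
  exact Dvd.intro _ rfl

end

theorem z52 : (3 : ZMod 5) = -2 := by decide

theorem z51 : (4 : ZMod 5) = -1 := by decide

/-- no element of order `15` in `SL₂(5)` -/
theorem sl25 (A : Matrix.SpecialLinearGroup (Fin 2) (ZMod 5)) : orderOf A ≠ 15 := by
  intro hA
  have := Fact.mk (by norm_num : Nat.Prime 5)
  have hdet := A.det_coe
  rw [Matrix.det_fin_two] at hdet
  have hch : (A : Matrix (Fin 2) (Fin 2) (ZMod 5)) * A = ((A : Matrix (Fin 2) (Fin 2) (ZMod 5)) 0 0 +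
      (A : Matrix (Fin 2) (Fin 2) (ZMod 5)) 1 1) • (A : Matrix (Fin 2) (Fin 2) (ZMod 5)) - 1 := by
    ext i j
    fin_cases i <;> fin_cases j
    · simp [Matrix.mul_apply, Fin.sum_univ_two]
      linear_combination -hdet
    · simp [Matrix.mul_apply, Fin.sum_univ_two]
      ring
    · simp [Matrix.mul_apply, Fin.sum_univ_two]
      ring
    · simp [Matrix.mul_apply, Fin.sum_univ_two]
      linear_combination -hdet
  generalize ht : (A : Matrix (Fin 2) (Fin 2) (ZMod 5)) 0 0 + (A : Matrix (Fin 2) (Fin 2) (ZMod 5)) 1 1 = t at hch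
  obtain ⟨M, hM⟩ : ∃ M, (A : Matrix (Fin 2) (Fin 2) (ZMod 5)) = M := ⟨_, rfl⟩
  rw [hM] at hch
  have key : ∀ m : ℕ, M ^ m = 1 → 15 ∣ m := by
    intro m hm
    rw [← hA]
    apply orderOf_dvd_of_pow_eq_one
    apply Subtype.ext
    rw [Matrix.SpecialLinearGroup.coe_pow, hM]
    exact hm
  have hsq : M ^ 2 = t • M - 1 := by rw [pow_two]; exact hch
  fin_cases t
  · have h1 : M ^ 2 = -1 := by
      rw [hsq]
      change (0 : ZMod 5) • M - 1 = _
      rw [zero_smul, zero_sub]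
    have := key 4 (by calc M ^ 4 = (M ^ 2) ^ 2 := by noncomm_ring
        _ = 1 := by rw [h1]; noncomm_ring)
    omega
  · have h1 : M ^ 2 = M - 1 := by
      rw [hsq]
      change (1 : ZMod 5) • M - 1 = _
      rw [one_smul]
    have h3 : M ^ 3 = -1 := by
      calc M ^ 3 = M ^ 2 * M := by noncomm_ring
        _ = (M - 1) * M := by rw [h1]
        _ = M ^ 2 - M := by noncomm_ring
        _ = -1 := by rw [h1]; noncomm_ring
    have := key 6 (by calc M ^ 6 = (M ^ 3) ^ 2 := by noncomm_ring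
        _ = 1 := by rw [h3]; noncomm_ring)
    omega
  · have h1 : M ^ 2 = M + M - 1 := by
      rw [hsq]
      change (2 : ZMod 5) • M - 1 = _
      rw [two_smul]
    have h2 : (M - 1) ^ 2 = 0 := by
      calc (M - 1) ^ 2 = M ^ 2 - M - M + 1 := by noncomm_ring
        _ = 0 := by rw [h1]; noncomm_ring
    have h3 : (M - 1) ^ 5 = M ^ 5 - 1 ^ 5 := sub_pow_char_of_commute _ (Commute.one_right M)
    have h4 : (M - 1) ^ 5 = 0 := by
      calc (M - 1) ^ 5 = (M - 1) ^ 2 * (M - 1) ^ 3 := by rw [← pow_add]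
        _ = 0 := by rw [h2, zero_mul]
    rw [h4, one_pow] at h3
    have := key 5 (sub_eq_zero.1 h3.symm)
    omega
  · have h1 : M ^ 2 = -(M + M) - 1 := by
      rw [hsq]
      have h2 := z52
      change (3 : ZMod 5) • M - 1 = _
      rw [h2, neg_smul, two_smul]
    have h2 : (M + 1) ^ 2 = 0 := by
      calc (M + 1) ^ 2 = M ^ 2 + M + M + 1 := by noncomm_ring
        _ = 0 := by rw [h1]; noncomm_ring
    have h3 : (M + 1) ^ 5 = M ^ 5 + 1 ^ 5 := add_pow_char_of_commute _ (Commute.one_right M)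
    have h4 : (M + 1) ^ 5 = 0 := by
      calc (M + 1) ^ 5 = (M + 1) ^ 2 * (M + 1) ^ 3 := by rw [← pow_add]
        _ = 0 := by rw [h2, zero_mul]
    rw [h4, one_pow] at h3
    have h5' : M ^ 5 = -1 := eq_neg_of_add_eq_zero_left h3.symm
    have := key 10 (by calc M ^ 10 = (M ^ 5) ^ 2 := by noncomm_ring
        _ = 1 := by rw [h5']; noncomm_ring)
    omega
  · have h1 : M ^ 2 = -M - 1 := by
      rw [hsq]
      have h2 := z51
      change (4 : ZMod 5) • M - 1 = _
      rw [h2, neg_smul, one_smul]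
    have h3 : M ^ 3 = 1 := by
      calc M ^ 3 = M ^ 2 * M := by noncomm_ring
        _ = (-M - 1) * M := by rw [h1]
        _ = -M ^ 2 - M := by noncomm_ring
        _ = 1 := by rw [h1]; noncomm_ring
    have := key 3 h3
    omega

end Cfsg.Agent.H390
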