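import Mathlib.GroupTheory.OrderOfElement
import Mathlib.GroupTheory.Solvable
import Mathlib.LinearAlgebra.Matrix.ProjectiveSpecialLinearGroup
import Mathlib.FieldTheory.Finite.Basic
import Mathlib.FieldTheory.IsAlgClosed.AlgebraicClosure
import Mathlib.RingTheory.RootsOfUnity.AlgebraicallyClosed
import Mathlib.LinearAlgebra.Matrix.CharP
import Mathlib.FieldTheory.Finite.GaloisField
import Mathlib.Tactic

/-!
# The spectrum of `PSL(2,q)`
-/

set_option autoImplicit false

namespace Cfsg.Agent.H390.PslSpec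

open Matrix Matrix.SpecialLinearGroup Polynomial

variable {F : Type*} [Field F]

local notation "SL2" => Matrix.SpecialLinearGroup (Fin 2) F
local notation "PSL2" => Matrix.ProjectiveSpecialLinearGroup (Fin 2) F

/-- the projection -/
def pr (F : Type*) [Field F] : Matrix.SpecialLinearGroup (Fin 2) F →* Matrix.ProjectiveSpecialLinearGroup (Fin 2) F :=
  QuotientGroup.mk' _

theorem pr_surjective : Function.Surjective (pr F) := QuotientGroup.mk'_surjective _

theorem pr_eq_one_iff (g : SL2) : pr F g = 1 ↔ (g : Matrix (Fin 2) (Fin 2) F) = 1 ∨ (g : Matrix (Fin 2) (Fin 2) F) = -1 := by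
  have h : pr F g = 1 ↔ g ∈ Subgroup.center SL2 := by
    exact QuotientGroup.eq_one_iff g
  rw [h, Matrix.SpecialLinearGroup.mem_center_iff]
  constructor
  · rintro ⟨r, hr, hg⟩
    simp only [Fintype.card_fin] at hr
    have : r = 1 ∨ r = -1 := by
      have : (r - 1) * (r + 1) = 0 := by ring_nf; linear_combination hr
      rcases mul_eq_zero.1 this with h | h
      · left; linear_combination h
      · right; linear_combination h
    rcases this with rfl | rfl
    · left; rw [← hg]; simp
    · right; rw [← hg]; ext i j; fin_cases i <;> fin_cases j <;> simp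
  · rintro (h | h)
    · exact ⟨1, by simp, by rw [h]; simp⟩
    · exact ⟨-1, by simp, by rw [h]; ext i j; fin_cases i <;> fin_cases j <;> simp⟩

theorem pr_pow_eq_one_iff (g : SL2) (n : ℕ) : (pr F g) ^ n = 1 ↔
    (g : Matrix (Fin 2) (Fin 2) F) ^ n = 1 ∨ (g : Matrix (Fin 2) (Fin 2) F) ^ n = -1 := by
  rw [← map_pow, pr_eq_one_iff]
  simp

/-- the trace -/
def tr (g : Matrix (Fin 2) (Fin 2) F) : F := g 0 0 + g 1 1

theorem cayley (g : Matrix (Fin 2) (Fin 2) F) (hg : g.det = 1) : g * g = tr g • g - 1 := by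
  rw [Matrix.det_fin_two] at hg
  ext i j
  fin_cases i <;> fin_cases j <;> simp [Matrix.mul_apply, tr, Fin.sum_univ_two] <;>
    first
    | ring1
    | linear_combination -hg

section closure

variable {K : Type*} [Field K]

/-- formula for powers, over a field containing the eigenvalue. -/
theorem pow_formula (g : Matrix (Fin 2) (Fin 2) K) (hg : g.det = 1) (u : K) (hu : u ≠ 0)
    (ht : tr g = u + u⁻¹) (n : ℕ) :
    (u - u⁻¹) • g ^ n = (u ^ n - (u⁻¹) ^ n) • g - (u ^ n * u⁻¹ - (u⁻¹) ^ n * u) • (1 : Matrix (Fin 2) (Fin 2) K) := by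
  have hc := cayley g hg
  induction n with
  | zero =>
    simp
    ext i j; fin_cases i <;> fin_cases j <;> simp
  | succ n ih =>
    have huu : u * u⁻¹ = 1 := mul_inv_cancel₀ hu
    rw [pow_succ, ← smul_mul_assoc, ih, sub_mul, smul_mul_assoc, hc, ht, smul_mul_assoc, one_mul]
    ext i j
    fin_cases i <;> fin_cases j <;> simp [Matrix.smul_apply] <;> (field_simp; ring)

theorem pow_eq_iff (g : Matrix (Fin 2) (Fin 2) K) (hg : g.det = 1) (u : K) (hu : u ≠ 0)
    (ht : tr g = u + u⁻¹) (hne : u ≠ u⁻¹) (n : ℕ) (e : K) (he : e * e = 1) :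
    g ^ n = e • (1 : Matrix (Fin 2) (Fin 2) K) ↔ u ^ n = e := by
  have hf := pow_formula g hg u hu ht n
  have hd : u - u⁻¹ ≠ 0 := sub_ne_zero.2 hne
  have hinv : e⁻¹ = e := inv_eq_of_mul_eq_one_left he
  constructor
  · intro h
    rw [h] at hf
    by_cases hun : u ^ n = (u⁻¹) ^ n
    · rw [← hun, sub_self, zero_smul, zero_sub] at hf
      have h00 := congrFun (congrFun hf 0) 0
      simp at h00
      have : (u - u⁻¹) * (u ^ n - e) = 0 := by linear_combination -h00
      rcases mul_eq_zero.1 this with h1 | h1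
      · exact absurd h1 hd
      · linear_combination h1
    · exfalso
      have hd' : u ^ n - (u⁻¹) ^ n ≠ 0 := sub_ne_zero.2 hun
      -- g is scalar
      have h01 := congrFun (congrFun hf 0) 1
      have h10 := congrFun (congrFun hf 1) 0
      have h00 := congrFun (congrFun hf 0) 0
      have h11 := congrFun (congrFun hf 1) 1
      simp at h01 h10 h00 h11
      have h01' : g 0 1 = 0 := h01.resolve_left (by rw [← inv_pow]; exact hd')
      have h10' : g 1 0 = 0 := h10.resolve_left (by rw [← inv_pow]; exact hd')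
      have hdiag : g 0 0 = g 1 1 := by
        have : (u ^ n - (u⁻¹) ^ n) * (g 0 0 - g 1 1) = 0 := by
          rw [inv_pow]
          linear_combination h11 - h00
        rcases mul_eq_zero.1 this with h1 | h1
        · exact absurd h1 hd'
        · linear_combination h1
      rw [Matrix.det_fin_two, h01', hdiag] at hg
      have htr : tr g = 2 * g 1 1 := by unfold tr; rw [hdiag]; ring
      rw [htr] at ht
      have huu : u * u⁻¹ = 1 := mul_inv_cancel₀ hu
      have : (u - u⁻¹) ^ 2 = 0 := by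
        have e1 : (u - u⁻¹) ^ 2 = (u + u⁻¹) ^ 2 - 4 * (u * u⁻¹) := by ring
        rw [e1, ← ht, huu]
        linear_combination 4 * hg
      exact hd (pow_eq_zero_iff (two_ne_zero) |>.1 this)
  · intro h
    have h' : (u⁻¹) ^ n = e := by rw [inv_pow, h, hinv]
    rw [h, h', sub_self, zero_smul, zero_sub] at hf
    have h2 : (u - u⁻¹) • g ^ n = (u - u⁻¹) • (e • (1 : Matrix (Fin 2) (Fin 2) K)) := by
      rw [hf, smul_smul, ← neg_smul]
      congr 1
      ring
    exact smul_right_injective _ hd h2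

end closure


section finite

variable [Fintype F] {p : ℕ} [hp : Fact p.Prime] [hcp : CharP F p]

/-- `(2, q - 1)` -/
def dd (q : ℕ) : ℕ := Nat.gcd 2 (q - 1)

omit [Fintype F] in
theorem root_exists (t : F) : ∃ u : AlgebraicClosure F, u ≠ 0 ∧ algebraMap F (AlgebraicClosure F) t = u + u⁻¹ := by
  set K := AlgebraicClosure F
  obtain ⟨u, hu⟩ := IsAlgClosed.exists_root (X ^ 2 - C (algebraMap F K t) * X + 1 : K[X]) (by
    have : (X ^ 2 - C (algebraMap F K t) * X + 1 : K[X]).degree = 2 := by compute_degree!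
    rw [this]; decide)
  simp [IsRoot] at hu
  have hu0 : u ≠ 0 := by
    rintro rfl
    simp at hu
  refine ⟨u, hu0, ?_⟩
  have h2 : u * (algebraMap F K t - u - u⁻¹) = 0 := by
    have : u * u⁻¹ = 1 := mul_inv_cancel₀ hu0
    linear_combination -hu - this
  rcases mul_eq_zero.1 h2 with h | h
  · exact absurd h hu0
  · linear_combination h


omit [Fintype F] in
theorem map_pow_eq {K : Type*} [Field K] (f : F →+* K) (g : Matrix (Fin 2) (Fin 2) F) (n : ℕ) (e : F) :
    (f.mapMatrix g) ^ n = (f e) • (1 : Matrix (Fin 2) (Fin 2) K) ↔ g ^ n = e • (1 : Matrix (Fin 2) (Fin 2) F) := by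
  have h1 : (f e) • (1 : Matrix (Fin 2) (Fin 2) K) = f.mapMatrix (e • (1 : Matrix (Fin 2) (Fin 2) F)) := by
    ext i j
    fin_cases i <;> fin_cases j <;> simp
  rw [h1, ← map_pow]
  constructor
  · intro h
    ext i j
    have := congrFun (congrFun h i) j
    simp only [RingHom.mapMatrix_apply, Matrix.map_apply] at this
    exact f.injective this
  · intro h
    rw [h]

omit [Fintype F] in
/-- `g ^ n = ±1` in terms of an eigenvalue -/
theorem pr_pow_iff (g : SL2) (u : AlgebraicClosure F) (hu : u ≠ 0)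
    (ht : algebraMap F (AlgebraicClosure F) (tr (g : Matrix (Fin 2) (Fin 2) F)) = u + u⁻¹) (hne : u ≠ u⁻¹) (n : ℕ) :
    (pr F g) ^ n = 1 ↔ (u ^ n = 1 ∨ u ^ n = -1) := by
  set f := algebraMap F (AlgebraicClosure F)
  have hdet : (f.mapMatrix (g : Matrix (Fin 2) (Fin 2) F)).det = 1 := by
    rw [← RingHom.map_det]; simp
  have htr : tr (f.mapMatrix (g : Matrix (Fin 2) (Fin 2) F)) = u + u⁻¹ := by
    rw [← ht]; simp [tr]
  have h1 := pow_eq_iff (f.mapMatrix (g : Matrix (Fin 2) (Fin 2) F)) hdet u hu htr hne n 1 (by simp)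
  have h2 := pow_eq_iff (f.mapMatrix (g : Matrix (Fin 2) (Fin 2) F)) hdet u hu htr hne n (-1) (by simp)
  have k1 := map_pow_eq f (g : Matrix (Fin 2) (Fin 2) F) n 1
  have k2 := map_pow_eq f (g : Matrix (Fin 2) (Fin 2) F) n (-1)
  simp only [map_one, map_neg, one_smul, neg_smul] at h1 h2 k1 k2
  rw [pr_pow_eq_one_iff, ← k1, ← k2, h1, h2]

theorem sq_cases {K : Type*} [Field K] {x : K} (h : x * x = 1) : x = 1 ∨ x = -1 := by
  exact mul_self_eq_one_iff.1 h

theorem dd_dvd_sub (q : ℕ) : dd q ∣ q - 1 := Nat.gcd_dvd_right _ _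

theorem dd_cases (q : ℕ) : dd q = 1 ∨ dd q = 2 := by
  have h := Nat.gcd_dvd_left 2 (q - 1)
  exact (Nat.dvd_prime Nat.prime_two).1 h

theorem dd_dvd_add {q : ℕ} (hq : 1 ≤ q) : dd q ∣ q + 1 := by
  rcases dd_cases q with h | h
  · rw [h]; exact one_dvd _
  · have := dd_dvd_sub q
    rw [h] at this ⊢
    omega

theorem pow_div_cases {K : Type*} [Field K] {u : K} {m d : ℕ} (hd : d = 1 ∨ d = 2) (hdm : d ∣ m)
    (h : u ^ m = 1) : u ^ (m / d) = 1 ∨ u ^ (m / d) = -1 := by
  rcases hd with rfl | rfl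
  · left; simpa using h
  · obtain ⟨k, rfl⟩ := hdm
    rw [Nat.mul_div_cancel_left _ (by norm_num)]
    apply sq_cases
    rw [← pow_add, ← two_mul]; exact h

theorem order_dvd (g : SL2) : orderOf (pr F g) ∣ p ∨ orderOf (pr F g) ∣ (Fintype.card F - 1) / dd (Fintype.card F) ∨
    orderOf (pr F g) ∣ (Fintype.card F + 1) / dd (Fintype.card F) := by
  set q := Fintype.card F with hq
  have hq1 : 1 ≤ q := Fintype.card_pos
  obtain ⟨u, hu, ht⟩ := root_exists (tr (g : Matrix (Fin 2) (Fin 2) F))
  by_cases hne : u = u⁻¹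
  · left
    apply orderOf_dvd_of_pow_eq_one
    have huu : u * u = 1 := by
      nth_rewrite 2 [hne]; exact mul_inv_cancel₀ hu
    -- `t = 2 e`
    have he : ∃ e : F, (e = 1 ∨ e = -1) ∧ tr (g : Matrix (Fin 2) (Fin 2) F) = 2 * e := by
      rcases sq_cases huu with h | h
      · refine ⟨1, Or.inl rfl, ?_⟩
        apply (algebraMap F (AlgebraicClosure F)).injective
        rw [ht, ← hne, h]; simp only [map_mul, map_one, map_neg, map_ofNat]; norm_num
      · refine ⟨-1, Or.inr rfl, ?_⟩
        apply (algebraMap F (AlgebraicClosure F)).injective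
        rw [ht, ← hne, h]; simp only [map_mul, map_one, map_neg, map_ofNat]; norm_num
    obtain ⟨e, he, hte⟩ := he
    have hee : e * e = 1 := by rcases he with rfl | rfl <;> simp
    have hc := cayley (g : Matrix (Fin 2) (Fin 2) F) g.2
    have hsq : ((g : Matrix (Fin 2) (Fin 2) F) - Matrix.scalar (Fin 2) e) ^ 2 = 0 := by
      rw [pow_two, sub_mul, mul_sub, mul_sub, hc, hte]
      ext i j
      fin_cases i <;> fin_cases j <;> simp [Matrix.mul_apply, Fin.sum_univ_two] <;>
        first
        | ring1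
        | linear_combination hee
    have hcomm : Commute (g : Matrix (Fin 2) (Fin 2) F) (Matrix.scalar (Fin 2) e) :=
      (Matrix.scalar_commute e (fun r => mul_comm _ _) _).symm
    have : CharP (Matrix (Fin 2) (Fin 2) F) p := Matrix.charP (n := Fin 2) (R := F) p
    have hp0 : ((g : Matrix (Fin 2) (Fin 2) F) - Matrix.scalar (Fin 2) e) ^ p = 0 := by
      obtain ⟨k, hk⟩ := Nat.exists_eq_add_of_le hp.out.two_le
      rw [hk, pow_add, hsq, zero_mul]
    rw [sub_pow_char_of_commute (R := Matrix (Fin 2) (Fin 2) F) (p := p) hcomm] at hp0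
    rw [sub_eq_zero, ← map_pow] at hp0
    rw [pr_pow_eq_one_iff, hp0]
    have : e ^ p = 1 ∨ e ^ p = -1 := by
      apply sq_cases
      rw [← mul_pow, hee, one_pow]
    rcases this with h | h
    · left; rw [h]; simp
    · right; rw [h]; ext i j; fin_cases i <;> fin_cases j <;> simp
  · right
    have hfr : (u ^ q - u) * (u ^ q - u⁻¹) = 0 := by
      have h1 : (u + u⁻¹) ^ q = u ^ q + (u⁻¹) ^ q := by
        obtain ⟨n, -, hn⟩ := FiniteField.card F p
        have : CharP (AlgebraicClosure F) p := charP_of_injective_algebraMap (algebraMap F (AlgebraicClosure F)).injective p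
        rw [hq, hn]
        exact add_pow_char_pow (R := AlgebraicClosure F) u u⁻¹ p n
      have h2 : (u + u⁻¹) ^ q = u + u⁻¹ := by
        rw [← ht, ← map_pow, hq, FiniteField.pow_card]
      have h3 : u ^ q * (u⁻¹) ^ q = 1 := by
        rw [← mul_pow, mul_inv_cancel₀ hu, one_pow]
      have h4 : u * u⁻¹ = 1 := mul_inv_cancel₀ hu
      rw [h2] at h1
      linear_combination (-u^q) * h1 + h4 - h3
    rcases mul_eq_zero.1 hfr with h | h
    · left
      apply orderOf_dvd_of_pow_eq_one
      rw [pr_pow_iff g u hu ht hne]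
      apply pow_div_cases (dd_cases q) (dd_dvd_sub q)
      have h5 : u ^ (q - 1) * u = u := by
        rw [← pow_succ, Nat.sub_add_cancel hq1]; linear_combination h
      exact mul_right_cancel₀ hu (by rw [h5, one_mul])
    · right
      apply orderOf_dvd_of_pow_eq_one
      rw [pr_pow_iff g u hu ht hne]
      apply pow_div_cases (dd_cases q) (dd_dvd_add hq1)
      rw [pow_succ, sub_eq_zero.1 h, inv_mul_cancel₀ hu]


/-- the set of element orders of `PSL(2,q)` -/
def specSet (p q : ℕ) : Set ℕ := {n | n ∣ p ∨ n ∣ (q - 1) / dd q ∨ n ∣ (q + 1) / dd q}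

/-- matrix with given trace -/
def comp (t : F) : SL2 := ⟨!![0, -1; 1, t], by rw [Matrix.det_fin_two_of]; ring⟩

omit [Fintype F] in
theorem tr_comp (t : F) : tr (comp t : Matrix (Fin 2) (Fin 2) F) = t := by
  simp [tr, comp]


theorem dd_even {q : ℕ} (hq : Even q) (hq1 : 1 ≤ q) : dd q = 1 := by
  unfold dd
  rcases (Nat.dvd_prime Nat.prime_two).1 (Nat.gcd_dvd_left 2 (q - 1)) with h | h
  · exact h
  · exfalso
    have h2 : 2 ∣ q - 1 := h ▸ Nat.gcd_dvd_right 2 (q - 1)
    have h3 : 2 ∣ q := hq.two_dvd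
    omega

theorem dd_odd {q : ℕ} (hq : Odd q) : dd q = 2 := by
  unfold dd
  obtain ⟨k, rfl⟩ := hq
  exact Nat.gcd_eq_left (by omega)

omit [Fintype F] in
theorem pow_div_iff {K : Type*} [Field K] {u : K} {q m : ℕ} (hq1 : 1 ≤ q) (hq : Even q → (2 : K) = 0) (hdm : dd q ∣ m)
    (h : orderOf u = m) (n : ℕ) : (u ^ n = 1 ∨ u ^ n = -1) ↔ m / dd q ∣ n := by
  rcases Nat.even_or_odd q with he | ho
  · rw [dd_even he hq1, Nat.div_one, ← h, orderOf_dvd_iff_pow_eq_one]
    have h2 : (-1 : K) = 1 := by linear_combination -(hq he)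
    rw [h2]; simp
  · rw [dd_odd ho] at hdm ⊢
    obtain ⟨k, rfl⟩ := hdm
    rw [Nat.mul_div_cancel_left _ (by norm_num)]
    have : (u ^ n = 1 ∨ u ^ n = -1) ↔ u ^ (2 * n) = 1 := by
      constructor
      · rintro (h | h) <;> rw [two_mul, pow_add, h] <;> simp
      · intro h; apply sq_cases; rw [← pow_add, ← two_mul]; exact h
    rw [this, ← orderOf_dvd_iff_pow_eq_one, h]
    exact Nat.mul_dvd_mul_iff_left (by norm_num)

omit [Fintype F] in
theorem orderOf_eq_of_pow_iff {G : Type*} [Group G] {g : G} {m : ℕ} (h : ∀ n, g ^ n = 1 ↔ m ∣ n) :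
    orderOf g = m := by
  apply Nat.dvd_antisymm
  · exact orderOf_dvd_of_pow_eq_one ((h m).2 dvd_rfl)
  · exact (h _).1 (pow_orderOf_eq_one g)

include hp hcp in
theorem two_eq_zero_of_even (h : Even (Fintype.card F)) : (2 : F) = 0 := by
  obtain ⟨n, hn, hc⟩ := FiniteField.card F p
  rw [hc] at h
  have h2 : p = 2 := by
    have : 2 ∣ p := Nat.prime_two.dvd_of_dvd_pow h.two_dvd
    exact ((Nat.prime_dvd_prime_iff_eq Nat.prime_two hn).1 this).symm
  have := CharP.cast_eq_zero F p
  rw [h2] at this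
  exact_mod_cast this

include hp hcp in
/-- an element of order `(q-1)/d` or `(q+1)/d` from an element of the algebraic closure. -/
theorem exists_of_root (u : AlgebraicClosure F) (hu : u ≠ 0) (t : F)
    (ht : algebraMap F (AlgebraicClosure F) t = u + u⁻¹) (hne : u ≠ u⁻¹) {m : ℕ}
    (hdm : dd (Fintype.card F) ∣ m) (h : orderOf u = m) :
    orderOf (pr F (comp t)) = m / dd (Fintype.card F) := by
  apply orderOf_eq_of_pow_iff
  intro n
  rw [pr_pow_iff (comp t) u hu (by rw [tr_comp, ht]) hne]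
  apply pow_div_iff Fintype.card_pos ?_ hdm h n
  intro he
  have : (2 : F) = 0 := two_eq_zero_of_even (p := p) he
  rw [← map_ofNat (algebraMap F (AlgebraicClosure F)) 2, this, map_zero]

theorem inv_ne_of_orderOf {K : Type*} [Field K] {u : K} (h : 2 < orderOf u) : u ≠ u⁻¹ := by
  intro h1
  by_cases hu : u = 0
  · subst hu
    rw [orderOf_zero] at h
    omega
  have : u ^ 2 = 1 := by
    rw [pow_two]; nth_rewrite 2 [h1]; exact mul_inv_cancel₀ hu
  have := Nat.le_of_dvd (by norm_num) (orderOf_dvd_of_pow_eq_one this)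
  omega

omit [Fintype F] in
theorem ne_zero_of_orderOf {K : Type*} [Field K] {u : K} (h : 2 < orderOf u) : u ≠ 0 := by
  rintro rfl
  rw [orderOf_zero] at h
  omega

include hp hcp in
theorem exists_sub (hq : 4 ≤ Fintype.card F) : ∃ g : PSL2, orderOf g = (Fintype.card F - 1) / dd (Fintype.card F) := by
  classical
  obtain ⟨g, hg⟩ := IsCyclic.exists_generator (α := Fˣ)
  have hord : orderOf (g : F) = Fintype.card F - 1 := by
    rw [orderOf_units, orderOf_eq_card_of_forall_mem_zpowers hg, Nat.card_eq_fintype_card, Fintype.card_units]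
  set u := algebraMap F (AlgebraicClosure F) (g : F)
  have hu : orderOf u = Fintype.card F - 1 := by
    rw [← hord]
    exact orderOf_injective (algebraMap F (AlgebraicClosure F) : F →* AlgebraicClosure F) (algebraMap F (AlgebraicClosure F)).injective _
  exact ⟨_, exists_of_root (p := p) u (ne_zero_of_orderOf (by omega)) ((g : F) + (g : F)⁻¹) (by simp [u]) (inv_ne_of_orderOf (by omega))
    (dd_dvd_sub _) hu⟩

theorem mem_range_of_pow_card {K : Type*} [Field K] (f : F →+* K) {x : K} (hx : x ^ Fintype.card F = x) :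
    ∃ t : F, f t = x := by
  classical
  set q := Fintype.card F with hq
  have hq1 : 1 < q := Fintype.one_lt_card
  have hne : (X ^ q - X : K[X]) ≠ 0 := FiniteField.X_pow_card_sub_X_ne_zero K hq1
  have hsub : (Finset.univ.image f : Finset K) ⊆ (X ^ q - X : K[X]).roots.toFinset := by
    intro y hy
    obtain ⟨t, -, rfl⟩ := Finset.mem_image.1 hy
    rw [Multiset.mem_toFinset, mem_roots hne]
    simp [IsRoot, ← map_pow, hq, FiniteField.pow_card]
  have hcard : (X ^ q - X : K[X]).roots.toFinset.card ≤ (Finset.univ.image f : Finset K).card := by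
    rw [Finset.card_image_of_injective _ f.injective, Finset.card_univ, ← hq]
    calc _ ≤ Multiset.card (X ^ q - X : K[X]).roots := Multiset.toFinset_card_le _
      _ ≤ (X ^ q - X : K[X]).natDegree := card_roots' _
      _ = q := FiniteField.X_pow_card_sub_X_natDegree_eq K hq1
  have heq := Finset.eq_of_subset_of_card_le hsub hcard
  have hx' : x ∈ (X ^ q - X : K[X]).roots.toFinset := by
    rw [Multiset.mem_toFinset, mem_roots hne]
    simp [IsRoot, hx]
  rw [← heq] at hx'
  obtain ⟨t, -, ht⟩ := Finset.mem_image.1 hx'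
  exact ⟨t, ht⟩

include hp hcp in
theorem exists_add (hq : 4 ≤ Fintype.card F) : ∃ g : PSL2, orderOf g = (Fintype.card F + 1) / dd (Fintype.card F) := by
  set q := Fintype.card F with hqdef
  have hq1 : 1 ≤ q := by omega
  have : CharP (AlgebraicClosure F) p := charP_of_injective_algebraMap (algebraMap F (AlgebraicClosure F)).injective p
  obtain ⟨k, hk, hc⟩ := FiniteField.card F p
  have hne : NeZero ((q + 1 : ℕ) : AlgebraicClosure F) := by
    constructor
    rw [Ne, CharP.cast_eq_zero_iff (AlgebraicClosure F) p]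
    intro h
    have h2 : p ∣ q := by rw [hqdef, hc]; exact dvd_pow_self _ k.2.ne'
    have := (Nat.dvd_add_right h2).1 h
    exact hp.out.one_lt.ne' (Nat.dvd_one.1 this)
  obtain ⟨u, hu⟩ := HasEnoughRootsOfUnity.exists_primitiveRoot (AlgebraicClosure F) (q + 1)
  have hord : orderOf u = q + 1 := hu.eq_orderOf.symm
  have hu0 : u ≠ 0 := ne_zero_of_orderOf (by omega)
  have huq : u ^ q = u⁻¹ := by
    have : u ^ q * u = 1 := by rw [← pow_succ, ← hord, pow_orderOf_eq_one]
    exact eq_inv_of_mul_eq_one_left this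
  -- trace in F
  have hfix : (u + u⁻¹) ^ q = u + u⁻¹ := by
    have : (u + u⁻¹) ^ q = u ^ q + (u⁻¹) ^ q := by
      rw [hqdef, hc]
      exact add_pow_char_pow (R := AlgebraicClosure F) u u⁻¹ p k
    rw [this, inv_pow, huq, inv_inv, add_comm]
  obtain ⟨t, ht⟩ : ∃ t : F, algebraMap F (AlgebraicClosure F) t = u + u⁻¹ :=
    mem_range_of_pow_card _ hfix
  exact ⟨_, exists_of_root (p := p) u hu0 t ht (inv_ne_of_orderOf (by omega)) (dd_dvd_add hq1) hord⟩

/-- a transvection -/
def trv (F : Type*) [Field F] : Matrix.SpecialLinearGroup (Fin 2) F := ⟨!![1, 1; 0, 1], by rw [Matrix.det_fin_two_of]; ring⟩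

theorem exists_char : ∃ g : PSL2, orderOf g = p := by
  refine ⟨pr F (trv F), ?_⟩
  apply orderOf_eq_prime
  · rw [pr_pow_eq_one_iff]
    left
    have : ∀ n : ℕ, (!![1, 1; 0, 1] : Matrix (Fin 2) (Fin 2) F) ^ n = !![1, (n : F); 0, 1] := by
      intro n
      induction n with
      | zero => simp [Matrix.one_fin_two]
      | succ n ih =>
        rw [pow_succ, ih]
        ext i j
        fin_cases i <;> fin_cases j <;> simp [Matrix.mul_apply, Fin.sum_univ_two, add_comm]
    show (!![1, 1; 0, 1] : Matrix (Fin 2) (Fin 2) F) ^ p = 1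
    rw [this, CharP.cast_eq_zero]
    simp [Matrix.one_fin_two]
  · rw [Ne, pr_eq_one_iff]
    rintro (h | h)
    · have := congrFun (congrFun h 0) 1
      simp [trv] at this
    · have := congrFun (congrFun h 0) 1
      simp [trv] at this

/-- The spectrum of `PSL(2,q)`, `q ≥ 4` a power of `p`: divisors of `p`, `(q-1)/(2,q-1)` and `(q+1)/(2,q-1)`. -/
theorem range_orderOf (hq : 4 ≤ Fintype.card F) :
    Set.range (orderOf : PSL2 → ℕ) = specSet p (Fintype.card F) := by
  ext n
  constructor
  · rintro ⟨g, rfl⟩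
    obtain ⟨g, rfl⟩ := pr_surjective g
    exact order_dvd g
  · have key : ∀ m, (∃ g : PSL2, orderOf g = m) → n ∣ m → m ≠ 0 → n ∈ Set.range (orderOf : PSL2 → ℕ) := by
      rintro m ⟨g, hg⟩ ⟨k, rfl⟩ hm
      refine ⟨g ^ k, ?_⟩
      have hk : k ≠ 0 := by rintro rfl; simp at hm
      rw [orderOf_pow_of_dvd hk (by rw [hg]; exact Dvd.intro_left _ rfl), hg, Nat.mul_div_cancel _ (Nat.pos_of_ne_zero hk)]
    have hdpos : 0 < dd (Fintype.card F) := by rcases dd_cases (Fintype.card F) with h | h <;> rw [h] <;> norm_num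
    rintro (h | h | h)
    · exact key _ exists_char h hp.out.ne_zero
    · refine key _ (exists_sub (p := p) hq) h ?_
      have := Nat.div_pos (Nat.le_of_dvd (by omega) (dd_dvd_sub (Fintype.card F))) hdpos
      omega
    · refine key _ (exists_add (p := p) hq) h ?_
      have := Nat.div_pos (Nat.le_of_dvd (by omega) (dd_dvd_add (q := Fintype.card F) (by omega))) hdpos
      omega

end finite

end Cfsg.Agent.H390.PslSpec
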