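import Mathlib
import Cfsg.Agent.H390.AltRed
import Cfsg.Agent.H390.Twelve

/-!
# Alternating composition factors: `q = 2`, `e = 12` (helper390)
-/

set_option autoImplicit false

namespace Cfsg.Agent.H390

open Subgroup Equiv Equiv.Perm
open scoped Nat

/-- A prime `s` with `s ≁ 3` and an alternating factor: `s ≤ k ≤ s + 2`. -/
theorem alt_key {L : Type*} [Group L] [Finite L] {G : Type*} [Group G] [Finite G]
    (h : Set.range (orderOf : G → ℕ) = Set.range (orderOf : L → ℕ)) {q e n D : ℕ} (hq2 : 2 ≤ q) (hfam : Fam L q e n D)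
    {H : Subgroup G} (hH : H.IsSubnormal) {k : ℕ} (hk : 6 ≤ k)
    (f : H →* alternatingGroup (Fin k)) (hf : Function.Surjective f) (hs : IsSimpleGroup (alternatingGroup (Fin k)))
    (hna : ¬ ∀ x y : alternatingGroup (Fin k), Commute x y) {s : ℕ} (hsp : s.Prime) (hse : orderOf (q : ZMod s) = e) :
    s ≤ k ∧ k ≤ s + 2 := by
  obtain ⟨p, ff, hp, hff, hq, F⟩ := hfam.facts
  have hrel := hfam.rel
  have he3 := Num.Rel.three_le hrel
  have hGL := exists_iff_of_range h
  obtain ⟨hs2, hs3, hsq, hed, hes⟩ := prim_cond hsp hse he3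
  have hno : ∀ g : G, orderOf g ≠ s * 3 := by
    intro g hg
    obtain ⟨x, hx⟩ := (hGL (s * 3)).1 ⟨g, hg⟩
    exact F.f1 s hsp hse x hx
  have hmain := Chief.main hsp Nat.prime_three hs3 hH f hf hna hno
    (alt_noncyclic Nat.prime_three (by norm_num) (by omega)) (alt_index (by omega) hs hna hsp hs2)
  have hmem : ∀ a : ℕ, s ^ a ∣ q ^ e - 1 → ∃ x : alternatingGroup (Fin k), orderOf x = s ^ a := by
    intro a ha
    exact hmain.1 a ((hGL _).2 (F.f2 s a hsp hse ha))
  have hsd : s ∣ q ^ e - 1 := dvd_of_orderOf (by omega) hse dvd_rfl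
  have hsk : s ≤ k := by
    have h1 := dvd_factorial_of_mem (hmem 1 (by rwa [pow_one]))
    rw [pow_one] at h1
    exact (hsp.dvd_factorial).1 h1
  refine ⟨hsk, ?_⟩
  by_contra hcon
  have h1 := (Cfsg.Agent.S2466.result k s 3 hsp Nat.prime_three hs2 (by norm_num) hs3 hsk (by omega)).2 (by omega)
  obtain ⟨g, hg⟩ := exists_of_section f hf (m := s * 3) h1
  exact hno g hg

theorem ord13 : orderOf ((2 : ℕ) : ZMod 13) = 12 := by
  refine orderOf_zmod (by norm_num) (by norm_num) (by decide) fun p hp hpe => ?_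
  have h1 : p ∣ 2 ^ 2 * 3 := hpe
  rcases hp.dvd_mul.1 h1 with h2 | h2
  · rw [(Nat.prime_dvd_prime_iff_eq hp Nat.prime_two).1 (hp.dvd_of_dvd_pow h2)]
    decide
  · rw [(Nat.prime_dvd_prime_iff_eq hp (by norm_num)).1 h2]
    decide

theorem alt_twelve {L : Type*} [Group L] [Finite L] {G : Type*} [Group G] [Finite G]
    (h : Set.range (orderOf : G → ℕ) = Set.range (orderOf : L → ℕ)) {q e n D : ℕ} (hfam : Fam L q e n D)
    (hq : q = 2) (he : e = 12)
    {H : Subgroup G} (hH : H.IsSubnormal) {k : ℕ} (hk : 6 ≤ k)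
    (f : H →* alternatingGroup (Fin k)) (hf : Function.Surjective f) (hs : IsSimpleGroup (alternatingGroup (Fin k)))
    (hna : ¬ ∀ x y : alternatingGroup (Fin k), Commute x y) : False := by
  have h13 := alt_key h (by omega) hfam hH hk f hf hs hna (s := 13) (by norm_num) (by rw [hq, he]; exact ord13)
  obtain ⟨r, hr, hno, hex⟩ := kill12 hfam hq he
  have hGL := exists_iff_of_range h
  have hrp : r.Prime := by
    rcases hr with rfl | rfl <;> norm_num
  have hr31 : 31 ≤ r := by
    rcases hr with rfl | rfl <;> norm_num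
  have hno' : ∀ g : G, orderOf g ≠ r * 5 := by
    intro g hg
    obtain ⟨x, hx⟩ := (hGL _).1 ⟨g, hg⟩
    exact hno x hx
  have hmain := Chief.main hrp (by norm_num : Nat.Prime 5) (by omega) hH f hf hna hno'
    (alt_noncyclic (by norm_num) (by norm_num) (by omega)) (alt_index (by omega) hs hna hrp (by omega))
  have h1 := hmain.1 1 (by rw [pow_one]; exact (hGL _).2 hex)
  rw [pow_one] at h1
  have h2 := (hrp.dvd_factorial).1 (dvd_factorial_of_mem h1)
  omega

end Cfsg.Agent.H390
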