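import Mathlib
import Cfsg.Agent.H390.FactsOrth
import Cfsg.Agent.H150.FarOrthEven
import Cfsg.Agent.H150.FarSp

/-!
# Classes not adjacent to `2` (helper390)

`F2 L q e n`: the primes of `R_e(q)` are not adjacent to `2` in `L`.
-/

set_option autoImplicit false
set_option linter.unusedSectionVars false

namespace Cfsg.Agent.H390

open Module Cfsg Matrix NonAdj QuadraticMap
open Cfsg.Agent.LieClassical.OrthCount Cfsg.Agent.LieClassical.OmegaReindex Cfsg.Agent.LieClassical
open Cfsg.Agent.H150 Cfsg.Agent.H377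

/-- The facts about `L` for the class `e`. -/
structure F2 (L : Type*) [Group L] (q e n : ℕ) : Prop where
  f1 : ∀ r : ℕ, r.Prime → orderOf (q : ZMod r) = e → ∀ x : L, orderOf x ≠ 2 * r
  f2 : ∀ r a : ℕ, r.Prime → orderOf (q : ZMod r) = e → r ^ a ∣ q ^ e - 1 → ∃ x : L, orderOf x = r ^ a
  f3 : ∀ r : ℕ, r.Prime → r ∣ Nat.card L → r ∣ q ∨ ∃ i, 1 ≤ i ∧ i ≤ n ∧ r ∣ q ^ (2 * i) - 1

theorem F2.congr {L L' : Type*} [Group L] [Group L'] {q e n : ℕ} (h : F2 L' q e n) (i : L ≃* L') : F2 L q e n := by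
  refine ⟨?_, ?_, ?_⟩
  · intro r hr he x hx
    exact h.f1 r hr he (i x) (by rw [MulEquiv.orderOf_eq, hx])
  · intro r a hr he ha
    obtain ⟨x, hx⟩ := h.f2 r a hr he ha
    exact ⟨i.symm x, by rw [MulEquiv.orderOf_eq, hx]⟩
  · intro r hr hrL
    exact h.f3 r hr (by rwa [← Nat.card_congr i.toEquiv])

variable {F : Type} [Field F]

theorem dvd_card_of_pow [Fintype F] {r k : ℕ} (hr : r.Prime) (h : r ∣ Fintype.card F ^ k) : r ∣ Nat.card F := by
  rw [Nat.card_eq_fintype_card]
  exact hr.dvd_of_dvd_pow h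

theorem pow_mod_four_of {q n : ℕ} (h : q % 4 = 1 ∨ (q % 4 = 3 ∧ Even n)) : q ^ n % 4 = 1 := by
  rcases h with h | ⟨h, t, ht⟩
  · rw [Nat.pow_mod, h, one_pow]
    rfl
  · rw [ht, ← two_mul, pow_mul, Nat.pow_mod, Nat.pow_mod _ 2, h]
    norm_num

theorem mod_four_of_odd [Fintype F] (h2 : (2 : F) ≠ 0) : Nat.card F % 4 = 1 ∨ Nat.card F % 4 = 3 := by
  obtain ⟨t, ht⟩ := odd_card_of_two_ne_zero h2
  rw [Nat.card_eq_fintype_card]
  omega

theorem mod_two_of_even [Fintype F] (h2 : (2 : F) = 0) : Nat.card F % 2 = 0 := by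
  have : CharP F 2 := CharTwo.of_one_ne_zero_of_two_eq_zero one_ne_zero h2
  obtain ⟨m, -, hm⟩ := FiniteField.card F 2
  rw [Nat.card_eq_fintype_card, hm]
  exact Nat.mod_eq_zero_of_dvd (dvd_pow_self _ (PNat.ne_zero m))

theorem sp_f2 [Fintype F] {n : ℕ} (hn : 2 ≤ n) (hn2 : n = 2 → 3 ≤ Fintype.card F) {e : ℕ} (h3e : 3 ≤ e)
    (he' : (e = 2 * n ∧ (Even n ∨ Nat.card F % 4 ≠ 3)) ∨ (e = n ∧ Odd n ∧ Nat.card F % 4 ≠ 1)) :
    F2 (PSp n F) (Nat.card F) e n := by
  have hq : Nat.card F = Fintype.card F := Nat.card_eq_fintype_card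
  have hq1 : 1 < Nat.card F := Finite.one_lt_card
  have hη : (Odd e ∧ n = e) ∨ (Even e ∧ 2 * n = e) := by
    rcases he' with ⟨h, -⟩ | ⟨h, ho, -⟩
    · exact Or.inr ⟨⟨n, by omega⟩, h.symm⟩
    · exact Or.inl ⟨h ▸ ho, h.symm⟩
  refine ⟨?_, ?_, ?_⟩
  · intro r hr he x
    obtain ⟨hr2, hr3, hrq, -, -⟩ := prim_cond hr he h3e
    have hrF := natCast_ne_zero (F := F) hr hrq
    by_cases h2 : (2 : F) = 0
    · intro hx
      have : CharP F 2 := CharTwo.of_one_ne_zero_of_two_eq_zero one_ne_zero h2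
      have := Fact.mk Nat.prime_two
      have hrG : r ∣ Nat.card (PSp n F) :=
        ((Dvd.intro_left 2 rfl).trans (dvd_of_eq hx.symm)).trans (orderOf_dvd_natCard x)
      rw [hq] at he
      have h1 := (Cfsg.Agent.S2472.result (F := F) 2 n hn hn2 r hr hr2 hr2 hrG e n he.symm hη).2 (by omega)
      exact h1 ⟨x, by rw [hx, mul_comm]⟩
    · have h4 := mod_four_of_odd h2
      rcases he' with ⟨h, h5⟩ | ⟨h, ho, h5⟩
      · subst h
        have h6 := pow_dvd_add_one (a := 1) hr hq1.le (by omega) he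
          (by rw [pow_one]; exact dvd_of_orderOf hq1.le he dvd_rfl)
        rw [pow_one] at h6
        refine psp_far_plus h2 (by omega) hr hr2 hrF he h6 (pow_mod_four_of ?_) x
        rcases h5 with h5 | h5
        · exact h4.imp id fun h => ⟨h, h5⟩
        · exact Or.inl (h4.resolve_right h5)
      · subst h
        exact psp_far_minus h2 (by omega) hr hr2 hrF he ho (h4.resolve_left h5) x
  · intro r a hr he ha
    obtain ⟨hr2, hr3, hrq, -, -⟩ := prim_cond hr he h3e
    have hodd : Odd (r ^ a) := (hr.odd_of_ne_two hr2).pow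
    apply Lift.desc_odd _ (fun z hz => Cfsg.Agent.H376.SpEmb.center_pow z hz) hodd
    rcases hη with ⟨-, h⟩ | ⟨-, h⟩
    · subst h
      exact Cfsg.Agent.H376.SpEmb.exists_of_dvd (by
        have : 1 < Nat.card F ^ n := Nat.one_lt_pow (by omega) hq1
        omega) ha (Cfsg.Agent.H376.SpEmb.exists_minus F n (by omega))
    · subst h
      exact Cfsg.Agent.H376.SpEmb.exists_of_dvd (by omega) (pow_dvd_add_one hr hq1.le (by omega) he ha)
        (Cfsg.Agent.H376.SpEmb.exists_plus F n (by omega))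
  · intro r hr hrL
    have h1 : r ∣ Nat.card (Matrix.symplecticGroup (Fin n) F) :=
      hrL.trans (Subgroup.card_quotient_dvd_card _)
    rw [Cfsg.Agent.S0245.result (F := F) rfl n, hr.dvd_mul] at h1
    rcases h1 with h1 | h1
    · exact Or.inl (dvd_card_of_pow hr h1)
    · right
      rw [hq]
      exact exists_of_dvd_prod hr h1

theorem odd_f2 [Fintype F] {n : ℕ} (hn : 3 ≤ n) (hodd : Odd (Fintype.card F)) {e : ℕ} (h3e : 3 ≤ e)
    (he' : (e = 2 * n ∧ (Even n ∨ Nat.card F % 4 ≠ 3)) ∨ (e = n ∧ Odd n ∧ Nat.card F % 4 ≠ 1)) :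
    F2 (POmega F (quadFormOdd n F)) (Nat.card F) e n := by
  have h2 := two_ne_zero_of_odd hodd
  have hq : Nat.card F = Fintype.card F := Nat.card_eq_fintype_card
  have hq1 : 1 < Nat.card F := Finite.one_lt_card
  have hη : (Odd e ∧ n = e) ∨ (Even e ∧ 2 * n = e) := by
    rcases he' with ⟨h, -⟩ | ⟨h, ho, -⟩
    · exact Or.inr ⟨⟨n, by omega⟩, h.symm⟩
    · exact Or.inl ⟨h ▸ ho, h.symm⟩
  have hsp := sp_f2 (F := F) (n := n) (by omega) (by omega) h3e he'
  have hcard : Fintype.card (Unit ⊕ (Fin n ⊕ Fin n)) = 2 * n + 1 := by simp; ring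
  have hord := Cfsg.Agent.S0292.result (F := F) rfl hodd n hn
  have h474 := fun r s => Cfsg.Agent.S2474.result (F := F) hodd n hn r s
  have hD : Lift.Data (quadOdd n F) := data_of _ (quadOdd_nondegenerate h2) (by rw [hcard]; omega)
    (quadOdd_isotropic (by omega)) (Or.inr (by rw [hcard]; omega))
  rw [← coe_quadOdd] at hord h474 ⊢
  refine ⟨?_, ?_, ?_⟩
  · intro r hr he x hx
    obtain ⟨hr2, hr3, hrq, -, -⟩ := prim_cond hr he h3e
    obtain ⟨y, hy⟩ := (h474 2 r Nat.prime_two hr hr2.symm).1 ⟨x, hx⟩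
    exact hsp.f1 r hr he y hy
  · intro r a hr he ha
    obtain ⟨hr2, hr3, hrq, -, -⟩ := prim_cond hr he h3e
    rcases hη with ⟨-, h⟩ | ⟨-, h⟩
    · subst h
      refine orth_f2_odd hD hr h3e he le_rfl ?_ ha
      rw [coe_quadOdd]
      exact Cfsg.Agent.H376.WordEmb.sl_odd n
    · refine orth_f2_even hD hr h3e he h.symm (by rw [hcard]; omega) ?_ ha
      have h3 : r ∣ 2 * Nat.card (POmega F ⇑(quadOdd n F)) := by
        rw [hord]
        apply Dvd.dvd.mul_left
        exact dvd_prod (i := n) (by omega) le_rfl (by rw [← hq]; exact dvd_of_orderOf hq1.le he (by rw [h]))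
      rcases hr.dvd_mul.1 h3 with h4 | h4
      · exact absurd ((Nat.prime_dvd_prime_iff_eq hr Nat.prime_two).1 h4) hr2
      · exact h4
  · intro r hr hrL
    have h1 : r ∣ 2 * Nat.card (POmega F ⇑(quadOdd n F)) := Dvd.dvd.mul_left hrL _
    rw [hord, hr.dvd_mul] at h1
    rcases h1 with h1 | h1
    · exact Or.inl (dvd_card_of_pow hr h1)
    · right
      rw [hq]
      exact exists_of_dvd_prod hr h1

theorem plus_f2 [Fintype F] {n : ℕ} (hn : 4 ≤ n) {e : ℕ}
    (hcase : (e = 2 * (n - 1) ∧ Nat.card F % 4 ≠ 3) ∨ (e = n ∧ Odd n ∧ Nat.card F % 4 ≠ 1) ∨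
      (e = n - 1 ∧ Even n ∧ Nat.card F % 4 ≠ 1)) {n' : ℕ} (hn' : n' = n ∨ (Even n ∧ n' = n - 1)) :
    F2 (POmega F (quadFormPlus n F)) (Nat.card F) e n' := by
  have hq : Nat.card F = Fintype.card F := Nat.card_eq_fintype_card
  have hq1 : 1 < Nat.card F := Finite.one_lt_card
  have hcard : Fintype.card (Fin n ⊕ Fin n) = 2 * n := by simp; ring
  have hord := Cfsg.Agent.S0293.result (F := F) rfl n hn
  have hD : Lift.Data (quadPlus n F) := data_of _ quadPlus_nondegenerate (by rw [hcard]; omega)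
    (quadPlus_isotropic (by omega)) (Or.inr (by rw [hcard]; omega))
  have hsign : HasSign (⇑(quadPlus n F)) n 1 := by rw [coe_quadPlus]; exact hasSign_quadFormPlus n
  have hnd := quadPlus_nondegenerate (m := n) (F := F)
  have hs := quadPlus_sing (F := F) (n := n) (by omega)
  rw [← coe_quadPlus] at hord ⊢
  have hdim : finrank F (Fin n ⊕ Fin n → F) = 2 * n := by rw [Module.finrank_fintype_fun_eq_card, hcard]
  have h3e : 3 ≤ e := by
    rcases hcase with ⟨rfl, -⟩ | ⟨rfl, -⟩ | ⟨rfl, -⟩ <;> omega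
  refine ⟨?_, ?_, ?_⟩
  · intro r hr he
    obtain ⟨hr2, hr3, hrq, -, -⟩ := prim_cond hr he h3e
    have hrF := natCast_ne_zero (F := F) hr hrq
    by_cases h2 : (2 : F) = 0
    · rcases hcase with ⟨h, h3⟩ | ⟨h, ho, h3⟩ | ⟨h, hev, h3⟩
      · exact gen_partial_even h2 (quadPlus n F) hnd hdim hs hr hr2 hrF hn he (Or.inr ⟨⟨n - 1, by omega⟩, h.symm⟩)
      · exact gen_full_even h2 (quadPlus n F) hnd hdim hs hr hr2 hrF (by omega) he (Or.inl ⟨h ▸ ho, h.symm⟩)
      · have ho : Odd (n - 1) := by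
          obtain ⟨t, ht⟩ := hev
          exact ⟨t - 1, by omega⟩
        exact gen_partial_even h2 (quadPlus n F) hnd hdim hs hr hr2 hrF hn he (Or.inl ⟨h ▸ ho, h.symm⟩)
    · have h4 := mod_four_of_odd h2
      rcases hcase with ⟨h, h3⟩ | ⟨h, ho, h3⟩ | ⟨h, hev, h3⟩
      · subst h
        have h5 := h4.resolve_right h3
        have hz : (Nat.card F : ℤ) % 4 = 1 := by exact_mod_cast h5
        have h6 := pow_dvd_add_one (a := 1) hr hq1.le (by omega) he
          (by rw [pow_one]; exact dvd_of_orderOf hq1.le he dvd_rfl)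
        rw [pow_one] at h6
        refine gen_partial_irr h2 (quadPlus n F) hnd hdim hs hr hr2 hrF (by omega) (Or.inl rfl) hsign
          he h6 (pow_mod_four_of (Or.inl h5)) ?_ ?_
        · have := pow_emod_four hz n
          omega
        · omega
      · subst h
        exact gen_full_odd h2 (quadPlus e F) hnd hdim hs hr hr2 hrF (by omega) he ho (h4.resolve_left h3)
      · subst h
        have h5 := h4.resolve_left h3
        have hz : (Nat.card F : ℤ) % 4 = 3 := by exact_mod_cast h5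
        have ho : Odd (n - 1) := by
          obtain ⟨t, ht⟩ := hev
          exact ⟨t - 1, by omega⟩
        refine gen_partial_odd h2 (quadPlus n F) hnd hdim hs hr hr2 hrF (by omega) (Or.inl rfl) hsign
          he ho h5 ?_ ?_
        · obtain ⟨t, ht⟩ := hev
          have := pow_emod_four_even hz t
          rw [ht, ← two_mul]
          omega
        · omega
  · intro r a hr he ha
    obtain ⟨hr2, hr3, hrq, -, -⟩ := prim_cond hr he h3e
    have hsl : ∃ φ : Matrix.SpecialLinearGroup (Fin n) F →* Cfsg.isometryGroup F (⇑(quadPlus n F)),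
        Function.Injective φ := by
      rw [coe_quadPlus]
      exact Cfsg.Agent.H376.WordEmb.sl_plus n
    rcases hcase with ⟨h, h3⟩ | ⟨h, ho, h3⟩ | ⟨h, hev, h3⟩
    · refine orth_f2_even hD hr h3e he h (by rw [hcard]; omega) ?_ ha
      refine H390.dvd_of_gcd_mul hr hr2 hord (dvd_mul_of_dvd_right ?_ _)
      exact dvd_prod (i := n - 1) (by omega) le_rfl (by rw [← hq]; exact dvd_of_orderOf hq1.le he (by rw [h]))
    · exact orth_f2_odd hD hr h3e he (by omega) hsl ha
    · exact orth_f2_odd hD hr h3e he (by omega) hsl ha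
  · intro r hr hrL
    have h1 : r ∣ Nat.gcd 4 (Fintype.card F ^ n - 1) * Nat.card (POmega F ⇑(quadPlus n F)) := Dvd.dvd.mul_left hrL _
    rw [hord, hr.dvd_mul, hr.dvd_mul] at h1
    have hnn : n - 1 ≤ n' := by rcases hn' with h | ⟨-, h⟩ <;> omega
    rcases h1 with (h1 | h1) | h1
    · exact Or.inl (dvd_card_of_pow hr h1)
    · right
      rw [hq]
      rcases hn' with h | ⟨⟨t, ht⟩, h⟩
      · subst h
        refine ⟨n', by omega, le_rfl, h1.trans ?_⟩
        rw [pow_two_mul_sub_one (by omega)]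
        exact Dvd.intro _ rfl
      · refine ⟨t, by omega, by omega, ?_⟩
        rwa [two_mul, ← ht]
    · right
      rw [hq]
      obtain ⟨i, hi1, hi2, hi⟩ := exists_of_dvd_prod hr h1
      exact ⟨i, hi1, by omega, hi⟩

theorem minus_f2 [Fintype F] {n : ℕ} (hn : 4 ≤ n) (a b : F)
    (hab : ∀ z₁ z₂ : F, z₁ ^ 2 + a * z₁ * z₂ + b * z₂ ^ 2 = 0 → z₁ = 0 ∧ z₂ = 0) {e : ℕ}
    (hcase : (e = 2 * n ∧ (Nat.card F % 4 ≠ 3 ∨ Even n)) ∨ (e = 2 * (n - 1) ∧ ((Odd n ∧ Nat.card F % 4 ≠ 1) ∨ Nat.card F % 2 = 0))) :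
    F2 (POmega F (quadFormMinus (n - 1) F a b)) (Nat.card F) e n := by
  have hq : Nat.card F = Fintype.card F := Nat.card_eq_fintype_card
  have hq1 : 1 < Nat.card F := Finite.one_lt_card
  have hcard : Fintype.card ((Fin (n - 1) ⊕ Fin (n - 1)) ⊕ Fin 2) = 2 * n := by simp; omega
  have hord := Cfsg.Agent.S0294.result (F := F) rfl n hn a b hab
  have hD : Lift.Data (quadMinus (n - 1) F a b) := data_of _ (quadMinus_nondegenerate hab) (by rw [hcard]; omega)
    (quadMinus_isotropic (by omega) a b) (Or.inr (by rw [hcard]; omega))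
  have hsign : HasSign (⇑(quadMinus (n - 1) F a b)) n (-1) := by
    rw [coe_quadMinus]
    have := hasSign_quadFormMinus (n - 1) (a := a) (b := b) hab
    rwa [Nat.sub_add_cancel (by omega)] at this
  have hnd := quadMinus_nondegenerate (m := n - 1) (F := F) hab
  have hs := quadMinus_sing (F := F) (n := n - 1) (by omega) a b
  rw [← coe_quadMinus] at hord ⊢
  have hdim : finrank F ((Fin (n - 1) ⊕ Fin (n - 1)) ⊕ Fin 2 → F) = 2 * n := by
    rw [Module.finrank_fintype_fun_eq_card, hcard]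
  have h3e : 3 ≤ e := by
    rcases hcase with ⟨rfl, -⟩ | ⟨rfl, -⟩ <;> omega
  refine ⟨?_, ?_, ?_⟩
  · intro r hr he
    obtain ⟨hr2, hr3, hrq, -, -⟩ := prim_cond hr he h3e
    have hrF := natCast_ne_zero (F := F) hr hrq
    by_cases h2 : (2 : F) = 0
    · rcases hcase with ⟨h, h3⟩ | ⟨h, h3⟩
      · exact gen_full_even h2 (quadMinus (n - 1) F a b) hnd hdim hs hr hr2 hrF (by omega) he
          (Or.inr ⟨⟨n, by omega⟩, h.symm⟩)
      · exact gen_partial_even h2 (quadMinus (n - 1) F a b) hnd hdim hs hr hr2 hrF hn he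
          (Or.inr ⟨⟨n - 1, by omega⟩, h.symm⟩)
    · have h4 := mod_four_of_odd h2
      rcases hcase with ⟨h, h3⟩ | ⟨h, h3⟩
      · subst h
        have h6 := pow_dvd_add_one (a := 1) hr hq1.le (by omega) he
          (by rw [pow_one]; exact dvd_of_orderOf hq1.le he dvd_rfl)
        rw [pow_one] at h6
        refine gen_full_irr h2 (quadMinus (n - 1) F a b) hnd hdim hs hr hr2 hrF (by omega) he h6
          (pow_mod_four_of ?_)
        rcases h3 with h3 | h3
        · exact Or.inl (h4.resolve_right h3)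
        · exact h4.imp id fun h => ⟨h, h3⟩
      · subst h
        obtain ⟨ho, h3⟩ := h3.resolve_right (by omega)
        have h5 := h4.resolve_left h3
        have hz : (Nat.card F : ℤ) % 4 = 3 := by exact_mod_cast h5
        have h6 := pow_dvd_add_one (a := 1) hr hq1.le (by omega) he
          (by rw [pow_one]; exact dvd_of_orderOf hq1.le he dvd_rfl)
        rw [pow_one] at h6
        obtain ⟨t, ht⟩ := ho
        refine gen_partial_irr h2 (quadMinus (n - 1) F a b) hnd hdim hs hr hr2 hrF (by omega)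
          (Or.inr rfl) hsign he h6 (pow_mod_four_of (Or.inr ⟨h5, ⟨t, by omega⟩⟩)) ?_ ?_
        · have h7 := pow_emod_four_odd hz t
          rw [ht]
          omega
        · omega
  · intro r a' hr he ha
    obtain ⟨hr2, hr3, hrq, -, -⟩ := prim_cond hr he h3e
    rcases hcase with ⟨h, h3⟩ | ⟨h, h3⟩
    · refine orth_f2_even hD hr h3e he h (by rw [hcard]; omega) ?_ ha
      refine H390.dvd_of_gcd_mul hr hr2 hord (dvd_mul_of_dvd_left (dvd_mul_of_dvd_right ?_ _) _)
      have h1 := pow_dvd_add_one (a := 1) hr hq1.le (by omega) (he.trans h)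
        (by rw [pow_one]; exact dvd_of_orderOf hq1.le he (by rw [h]))
      rwa [pow_one, hq] at h1
    · refine orth_f2_even hD hr h3e he h (by rw [hcard]; omega) ?_ ha
      refine H390.dvd_of_gcd_mul hr hr2 hord (dvd_mul_of_dvd_right ?_ _)
      exact dvd_prod (i := n - 1) (by omega) le_rfl (by rw [← hq]; exact dvd_of_orderOf hq1.le he (by rw [h]))
  · intro r hr hrL
    have h1 : r ∣ Nat.gcd 4 (Fintype.card F ^ n + 1) * Nat.card (POmega F ⇑(quadMinus (n - 1) F a b)) :=
      Dvd.dvd.mul_left hrL _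
    rw [hord, hr.dvd_mul, hr.dvd_mul] at h1
    rcases h1 with (h1 | h1) | h1
    · exact Or.inl (dvd_card_of_pow hr h1)
    · right
      rw [hq]
      refine ⟨n, by omega, le_rfl, h1.trans ?_⟩
      rw [pow_two_mul_sub_one (by omega)]
      exact Dvd.intro_left _ rfl
    · right
      rw [hq]
      obtain ⟨i, hi1, hi2, hi⟩ := exists_of_dvd_prod hr h1
      exact ⟨i, hi1, by omega, hi⟩

end Cfsg.Agent.H390
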