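import Mathlib
import Cfsg.Agent.H390.SpTable
import Cfsg.Agent.H390.NumAlt

/-!
# The finite check for sporadic factors (helper390)
-/

set_option autoImplicit false
set_option maxRecDepth 100000

namespace Cfsg.Agent.H390.Sp

open Cfsg Cfsg.Agent.OrdDiv Cfsg.Agent.H403 Cfsg.Agent.H365.Zsig Cfsg.Agent.H390.Num

/-- the numerical relations -/
def Rel2 (q e n : ℕ) : Prop :=
  (e % 2 = 0 ∧ 4 ≤ e ∧ (e % 4 = 0 ∨ q % 4 = 1) ∧ 2 * n ≤ e + 2 ∧ (e = 4 → n ≤ 2 ∧ 4 ≤ q)) ∨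
    (e % 2 = 1 ∧ 3 ≤ e ∧ q % 4 ≠ 1 ∧ n ≤ e)

/-- the hypotheses -/
structure Hyp (x : Grp × ℕ × List (ℕ × ℕ)) (q e n : ℕ) : Prop where
  hq : 2 ≤ q
  rel : Rel2 q e n
  hR : ∀ r a : ℕ, r.Prime → orderOf (q : ZMod r) = e → r ^ a ∣ q ^ e - 1 → a = 0 ∨ (r ∈ isoR x.1 ∧ a = 1)
  hpi : ∀ y ∈ x.2.2, y.1 ∣ q ∨ ∃ i, 1 ≤ i ∧ i ≤ n ∧ y.1 ∣ q ^ (2 * i) - 1

/-- the product of the primes -/
def Mx (g : Grp) (e : ℕ) : ℕ := ((isoR g).filter (fun r => Nat.beq (r % e) 1)).prod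

def nb (e : ℕ) : ℕ := if Nat.beq e 4 then 2 else if Nat.beq (e % 2) 0 then e / 2 + 1 else e

def relb (q e : ℕ) : Bool :=
  if Nat.beq (e % 2) 0 then Nat.beq (e % 4) 0 || Nat.beq (q % 4) 1 else ! Nat.beq (q % 4) 1

def badb (x : Grp × ℕ × List (ℕ × ℕ)) (e q : ℕ) : Bool :=
  x.2.2.any fun y => ! Nat.beq (q % y.1) 0 && (List.range (nb e)).all fun i => ! Nat.beq ((q ^ (2 * (i + 1)) - 1) % y.1) 0

/-- the survivors -/
def surv : List (Grp × ℕ × ℕ) :=
  [(.tits, 4, 5), (.j2, 3, 2), (.tits, 3, 3), (.j2, 3, 4), (.j2, 6, 5), (.j1, 3, 11), (.he, 8, 2), (.suz, 12, 2),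
    (.fi22, 12, 2), (.tits, 12, 2), (.th, 3, 87)]

/-- the bound of `q` -/
def Bd (e : ℕ) : ℕ := if Nat.beq e 4 then 70 else if Nat.beq e 3 then 482 else if Nat.beq e 6 then 681 else 16

/-- Euler's function -/
def totb (e : ℕ) : ℕ := ((List.range e).filter fun d => Nat.beq (Nat.gcd e d) 1).length

def chkq (x : Grp × ℕ × List (ℕ × ℕ)) (e q : ℕ) : Bool :=
  ! Nat.blt ((q - 1) ^ totb e) (e * Mx x.1 e) || ! Nat.beq ((e * Mx x.1 e) % phiN e e q) 0 || ! relb q e || badb x e q ||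
    decide ((x.1, e, q) ∈ surv)

def chke (x : Grp × ℕ × List (ℕ × ℕ)) (e : ℕ) : Bool :=
  ((isoR x.1).filter (fun r => Nat.beq (r % e) 1)).isEmpty ||
    (Nat.ble (e * Mx x.1 e) ((Bd e - 1) ^ totb e) && (List.range (Bd e)).all fun q => Nat.blt q 2 || chkq x e q)

theorem check1 : sporFac.all (fun x => (List.range 71).all fun e => Nat.blt e 3 || chke x e) = true := by decide +kernel

theorem check2 : (List.range 71).all (fun e => Nat.beq (Nat.totient e) (totb e)) = true := by decide +kernel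

theorem isoR_le : ∀ x ∈ sporFac, ∀ r ∈ isoR x.1, r ≤ 71 := by decide +kernel

theorem rel_three {q e n : ℕ} (h : Rel2 q e n) : 3 ≤ e := by
  rcases h with ⟨_, h, _⟩ | ⟨_, h, _⟩ <;> omega

theorem rel_six {q e n : ℕ} (h : Rel2 q e n) : ¬ (q = 2 ∧ e = 6) := by
  rintro ⟨rfl, rfl⟩
  rcases h with ⟨_, _, h | h, _⟩ | ⟨h, _⟩ <;> omega

theorem beq_false {a b : ℕ} (h : a ≠ b) : Nat.beq a b = false := by
  rw [← Bool.not_eq_true, Nat.beq_eq]
  exact h

theorem beq_true {a b : ℕ} (h : a = b) : Nat.beq a b = true := by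
  rw [Nat.beq_eq]
  exact h

theorem rel_relb {q e n : ℕ} (h : Rel2 q e n) : relb q e = true := by
  unfold relb
  rcases h with ⟨h1, _, h2, _⟩ | ⟨h1, _, h2, _⟩
  · rw [beq_true h1, if_pos rfl]
    rcases h2 with h2 | h2
    · rw [beq_true h2, Bool.true_or]
    · rw [beq_true h2, Bool.or_true]
  · rw [beq_false (show e % 2 ≠ 0 by omega), if_neg (by decide), beq_false h2]
    rfl

theorem rel_nb {q e n : ℕ} (h : Rel2 q e n) : n ≤ nb e := by
  unfold nb
  rcases h with ⟨h1, _, h2, h3, h4⟩ | ⟨h1, _, h2, h3⟩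
  · by_cases h5 : e = 4
    · rw [beq_true h5, if_pos rfl]
      exact (h4 h5).1
    · rw [beq_false h5, if_neg (by decide), beq_true h1, if_pos rfl]
      omega
  · have h5 : e ≠ 4 := by omega
    rw [beq_false h5, if_neg (by decide), beq_false (show e % 2 ≠ 0 by omega), if_neg (by decide)]
    exact h3

theorem mem_filter {x : Grp × ℕ × List (ℕ × ℕ)} {q e n : ℕ} (h : Hyp x q e n) {r : ℕ} (hr : r.Prime)
    (he : orderOf (q : ZMod r) = e) : r ∈ (isoR x.1).filter (fun r => Nat.beq (r % e) 1) := by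
  have h3 := rel_three h.rel
  have hq := h.hq
  rw [List.mem_filter]
  have h1 : r ^ 1 ∣ q ^ e - 1 := by
    rw [pow_one]
    exact Cfsg.Agent.H390.dvd_of_orderOf (by omega) he dvd_rfl
  rcases h.hR r 1 hr he h1 with h2 | ⟨h2, -⟩
  · omega
  · refine ⟨h2, ?_⟩
    obtain ⟨-, -, -, hd, hlt⟩ := Cfsg.Agent.H390.prim_cond hr he h3
    obtain ⟨c, hc⟩ := hd
    have h4 : r = e * c + 1 := by omega
    rw [Nat.beq_eq, h4, Nat.mul_add_mod]
    exact Nat.mod_eq_of_lt (by omega)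

theorem Ph_dvd_Mx {x : Grp × ℕ × List (ℕ × ℕ)} {q e n : ℕ} (h : Hyp x q e n) : Ph e q ∣ e * Mx x.1 e := by
  have h3 := rel_three h.rel
  obtain ⟨P, hP, hPe, hmax⟩ := exists_max_prime (e := e) (by omega)
  refine (Ph_dvd_gen (M := Mx x.1 e) h.hq h3 hP hPe hmax ?_).trans (mul_dvd_mul_right hPe _)
  intro s a hs hse ha
  have h4 := mem_filter h hs hse
  have h5 : s ^ a ∣ q ^ e - 1 := ha.trans (Ph_dvd (by omega) (by have := h.hq; omega))
  rcases h.hR s a hs hse h5 with rfl | ⟨-, rfl⟩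
  · rw [pow_zero]; exact one_dvd _
  · rw [pow_one]
    exact List.dvd_prod h4

theorem totb_eq {e : ℕ} (he : e < 71) : Nat.totient e = totb e := by
  have h1 := List.all_eq_true.1 check2 e (List.mem_range.2 he)
  exact Nat.eq_of_beq_eq_true h1

theorem lower {e q : ℕ} (he : 3 ≤ e) (he' : e < 71) (hq : 2 ≤ q) : (q - 1) ^ totb e < Ph e q := by
  rw [← totb_eq he']
  have h1 := Polynomial.sub_one_pow_totient_lt_natAbs_cyclotomic_eval (n := e) (q := q) (by omega) (by omega)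
  have h2 := Ph_cast (n := e) (q := q) (by omega)
  rw [h2, Int.natAbs_natCast] at h1
  exact h1

/-- **The numerical theorem.** -/
theorem num {x : Grp × ℕ × List (ℕ × ℕ)} (hx : x ∈ sporFac) {q e n : ℕ} (h : Hyp x q e n) : (x.1, e, q) ∈ surv := by
  have h3 := rel_three h.rel
  have hq := h.hq
  obtain ⟨r, hr, hre⟩ := Cfsg.Agent.Lib.Zsigmondy.exists_prime_orderOf (a := q) hq (by omega : 2 ≤ e) (by omega)
    (rel_six h.rel)
  have hmem := mem_filter h hr hre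
  have hr71 := isoR_le x hx r (List.mem_filter.1 hmem).1
  obtain ⟨-, -, -, -, hlt⟩ := Cfsg.Agent.H390.prim_cond hr hre h3
  have he71 : e < 71 := by omega
  have h1 := List.all_eq_true.1 (List.all_eq_true.1 check1 x hx) e (List.mem_range.2 he71)
  rw [Bool.or_eq_true] at h1
  have h2 := h1.resolve_left (by rw [Nat.blt_eq]; omega)
  unfold chke at h2
  rw [Bool.or_eq_true] at h2
  have h4 := h2.resolve_left (by
    intro h5
    rw [List.isEmpty_iff] at h5
    rw [h5] at hmem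
    exact absurd hmem List.not_mem_nil)
  rw [Bool.and_eq_true, Nat.ble_eq] at h4
  obtain ⟨h5, h6⟩ := h4
  have hdvd := Ph_dvd_Mx h
  have hpos : 0 < e * Mx x.1 e := by
    apply Nat.mul_pos (by omega)
    apply Nat.pos_of_ne_zero
    intro h7
    rw [Mx, List.prod_eq_zero_iff] at h7
    have h8 : ∀ x ∈ sporFac, 0 ∉ isoR x.1 := by decide +kernel
    exact h8 x hx (List.mem_filter.1 h7).1
  have hle := Nat.le_of_dvd hpos hdvd
  have hlow := lower h3 he71 hq
  have hqB : q < Bd e := by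
    by_contra hcon
    push Not at hcon
    have h7 : (Bd e - 1) ^ totb e ≤ (q - 1) ^ totb e := Nat.pow_le_pow_left (by omega) _
    omega
  have h7 := List.all_eq_true.1 h6 q (List.mem_range.2 hqB)
  rw [Bool.or_eq_true] at h7
  have h8 := h7.resolve_left (by rw [Nat.blt_eq]; omega)
  unfold chkq at h8
  rw [Bool.or_eq_true, Bool.or_eq_true, Bool.or_eq_true, Bool.or_eq_true, decide_eq_true_eq] at h8
  rcases h8 with (((h8 | h8) | h8) | h8) | h8
  · exfalso
    rw [Bool.not_eq_true', ← Bool.not_eq_true, Nat.blt_eq] at h8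
    omega
  · exfalso
    rw [Bool.not_eq_true', ← Bool.not_eq_true, Nat.beq_eq, phiN_eq hq _ _ (by omega) le_rfl] at h8
    exact h8 (Nat.mod_eq_zero_of_dvd hdvd)
  · exfalso
    rw [rel_relb h.rel] at h8
    exact Bool.noConfusion h8
  · exfalso
    unfold badb at h8
    obtain ⟨y, hy, h9⟩ := List.any_eq_true.1 h8
    rw [Bool.and_eq_true] at h9
    rcases h.hpi y hy with h10 | ⟨i, hi1, hi2, hi3⟩
    · have h11 := h9.1
      rw [Bool.not_eq_true', ← Bool.not_eq_true, Nat.beq_eq] at h11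
      exact h11 (Nat.mod_eq_zero_of_dvd h10)
    · have h11 := List.all_eq_true.1 h9.2 (i - 1) (List.mem_range.2 (by have := rel_nb h.rel; omega))
      rw [Bool.not_eq_true', ← Bool.not_eq_true, Nat.beq_eq, show i - 1 + 1 = i by omega] at h11
      exact h11 (Nat.mod_eq_zero_of_dvd hi3)
  · exact h8

end Cfsg.Agent.H390.Sp
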