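import Mathlib
import Cfsg.Agent.H390.F2
import Cfsg.Agent.H390.SpNum

/-!
# The classes not adjacent to `2` for all symplectic and orthogonal simple groups (helper390)
-/

set_option autoImplicit false
set_option linter.unusedSectionVars false

namespace Cfsg.Agent.H390

open Module Cfsg Matrix NonAdj QuadraticMap

/-- which group -/
inductive Fam2 (L : Type*) [Group L] : ℕ → ℕ → ℕ → Prop
  | sp (F : Type) [Field F] [Fintype F] (n e : ℕ) (hn : 2 ≤ n) (hn2 : n = 2 → 4 ≤ Fintype.card F)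
      (iso : Nonempty (L ≃* PSp n F)) (he : (e = 2 * n ∧ (Even n ∨ Nat.card F % 4 = 1)) ∨ (e = n ∧ Odd n ∧ Nat.card F % 4 ≠ 1)) :
      Fam2 L (Nat.card F) e n
  | odd (F : Type) [Field F] [Fintype F] (n e : ℕ) (hn : 3 ≤ n) (hodd : Odd (Fintype.card F))
      (iso : Nonempty (L ≃* POmega F (quadFormOdd n F)))
      (he : (e = 2 * n ∧ (Even n ∨ Nat.card F % 4 = 1)) ∨ (e = n ∧ Odd n ∧ Nat.card F % 4 ≠ 1)) :
      Fam2 L (Nat.card F) e n
  | plus (F : Type) [Field F] [Fintype F] (n e : ℕ) (hn : 4 ≤ n) (iso : Nonempty (L ≃* POmega F (quadFormPlus n F)))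
      (he : (e = 2 * (n - 1) ∧ Nat.card F % 4 = 1) ∨ (e = n ∧ Odd n ∧ Nat.card F % 4 ≠ 1) ∨
        (e = n - 1 ∧ Even n ∧ Nat.card F % 4 ≠ 1)) (n' : ℕ) (hn' : (Odd n ∧ n' = n) ∨ (Even n ∧ n' = n - 1)) :
      Fam2 L (Nat.card F) e n'
  | minus (F : Type) [Field F] [Fintype F] (n e : ℕ) (hn : 4 ≤ n) (a b : F)
      (hab : ∀ z₁ z₂ : F, z₁ ^ 2 + a * z₁ * z₂ + b * z₂ ^ 2 = 0 → z₁ = 0 ∧ z₂ = 0)
      (iso : Nonempty (L ≃* POmega F (quadFormMinus (n - 1) F a b)))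
      (he : (e = 2 * n ∧ (Nat.card F % 4 = 1 ∨ Even n)) ∨ (e = 2 * (n - 1) ∧ Odd n ∧ Nat.card F % 4 ≠ 1)) :
      Fam2 L (Nat.card F) e n

theorem exists_fam2 {L : Type*} [Group L]
    (hL : (Cfsg.IsPSp L ∧ ∀ (F : Type) [Field F] [Fintype F], Fintype.card F = 3 → ¬ Nonempty (L ≃* Cfsg.PSp 2 F)) ∨
      Cfsg.IsPOmegaOdd L ∨ Cfsg.IsPOmegaPlus L ∨ Cfsg.IsPOmegaMinus L) :
    ∃ q e n : ℕ, Fam2 L q e n := by
  rcases hL with ⟨⟨F, _, _, n, hn, hn2, iso⟩, h3⟩ | ⟨F, _, _, n, hn, hodd, iso⟩ | ⟨F, _, _, n, hn, iso⟩ |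
    ⟨F, _, _, n, a, b, hn, hab, iso⟩
  · have hn2' : n = 2 → 4 ≤ Fintype.card F := by
      rintro rfl
      have h5 := hn2 rfl
      have h6 : Fintype.card F ≠ 3 := fun h7 => h3 F h7 iso
      omega
    by_cases h : Even n ∨ Nat.card F % 4 = 1
    · exact ⟨_, _, _, Fam2.sp F n (2 * n) hn hn2' iso (Or.inl ⟨rfl, h⟩)⟩
    · push Not at h
      exact ⟨_, _, _, Fam2.sp F n n hn hn2' iso (Or.inr ⟨rfl, Nat.not_even_iff_odd.1 h.1, h.2⟩)⟩
  · by_cases h : Even n ∨ Nat.card F % 4 = 1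
    · exact ⟨_, _, _, Fam2.odd F n (2 * n) hn hodd iso (Or.inl ⟨rfl, h⟩)⟩
    · push Not at h
      exact ⟨_, _, _, Fam2.odd F n n hn hodd iso (Or.inr ⟨rfl, Nat.not_even_iff_odd.1 h.1, h.2⟩)⟩
  · obtain ⟨n', hn'⟩ : ∃ n', (Odd n ∧ n' = n) ∨ (Even n ∧ n' = n - 1) := by
      rcases Nat.even_or_odd n with h | h
      · exact ⟨n - 1, Or.inr ⟨h, rfl⟩⟩
      · exact ⟨n, Or.inl ⟨h, rfl⟩⟩
    by_cases h : Nat.card F % 4 = 1
    · exact ⟨_, _, _, Fam2.plus F n _ hn iso (Or.inl ⟨rfl, h⟩) n' hn'⟩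
    · rcases Nat.even_or_odd n with h1 | h1
      · exact ⟨_, _, _, Fam2.plus F n _ hn iso (Or.inr (Or.inr ⟨rfl, h1, h⟩)) n' hn'⟩
      · exact ⟨_, _, _, Fam2.plus F n _ hn iso (Or.inr (Or.inl ⟨rfl, h1, h⟩)) n' hn'⟩
  · by_cases h : Nat.card F % 4 = 1 ∨ Even n
    · exact ⟨_, _, _, Fam2.minus F n _ hn a b hab iso (Or.inl ⟨rfl, h⟩)⟩
    · push Not at h
      exact ⟨_, _, _, Fam2.minus F n _ hn a b hab iso (Or.inr ⟨rfl, Nat.not_even_iff_odd.1 h.2, h.1⟩)⟩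

theorem Fam2.rel {L : Type*} [Group L] {q e n : ℕ} (h : Fam2 L q e n) : Sp.Rel2 q e n := by
  cases h with
  | sp F n e hn hn2 iso he =>
    rw [Nat.card_eq_fintype_card] at *
    rw [Nat.even_iff, Nat.odd_iff] at he
    rcases he with ⟨rfl, h⟩ | ⟨rfl, ho, h⟩
    · exact Or.inl ⟨by omega, by omega, by omega, by omega, fun h4 => ⟨by omega, hn2 (by omega)⟩⟩
    · exact Or.inr ⟨by omega, by omega, h, le_rfl⟩
  | odd F n e hn hodd iso he =>
    rw [Nat.even_iff, Nat.odd_iff] at he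
    rcases he with ⟨rfl, h⟩ | ⟨rfl, ho, h⟩
    · exact Or.inl ⟨by omega, by omega, by omega, by omega, fun h4 => by omega⟩
    · exact Or.inr ⟨by omega, by omega, h, le_rfl⟩
  | plus F n e hn iso he n' hn' =>
    rw [Nat.even_iff, Nat.odd_iff] at he hn'
    rcases he with ⟨rfl, h⟩ | ⟨rfl, ho, h⟩ | ⟨rfl, ho, h⟩
    · exact Or.inl ⟨by omega, by omega, by omega, by omega, fun h4 => by omega⟩
    · exact Or.inr ⟨by omega, by omega, h, by omega⟩
    · exact Or.inr ⟨by omega, by omega, h, by omega⟩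
  | minus F n e hn a b hab iso he =>
    rw [Nat.even_iff, Nat.odd_iff] at he
    rcases he with ⟨rfl, h⟩ | ⟨rfl, ho, h⟩
    · exact Or.inl ⟨by omega, by omega, by omega, by omega, fun h4 => by omega⟩
    · exact Or.inl ⟨by omega, by omega, by omega, by omega, fun h4 => by omega⟩

theorem Fam2.f2 {L : Type*} [Group L] {q e n : ℕ} (h : Fam2 L q e n) : F2 L q e n := by
  cases h with
  | sp F n e hn hn2 iso he =>
    obtain ⟨i⟩ := iso
    refine (sp_f2 hn (fun h => by have := hn2 h; omega) ?_ ?_).congr i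
    · rcases he with ⟨rfl, h⟩ | ⟨rfl, ⟨t, ht⟩, h⟩ <;> omega
    · rcases he with ⟨h1, h2⟩ | h
      · exact Or.inl ⟨h1, h2.imp id fun h => by omega⟩
      · exact Or.inr h
  | odd F n e hn hodd iso he =>
    obtain ⟨i⟩ := iso
    refine (odd_f2 hn hodd ?_ ?_).congr i
    · rcases he with ⟨rfl, h⟩ | ⟨rfl, ho, h⟩ <;> omega
    · rcases he with ⟨h1, h2⟩ | h
      · exact Or.inl ⟨h1, h2.imp id fun h => by omega⟩
      · exact Or.inr h
  | plus F n e hn iso he n' hn' =>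
    obtain ⟨i⟩ := iso
    refine (plus_f2 hn ?_ ?_).congr i
    · rcases he with ⟨h1, h2⟩ | h | h
      · exact Or.inl ⟨h1, by omega⟩
      · exact Or.inr (Or.inl h)
      · exact Or.inr (Or.inr h)
    · rcases hn' with ⟨_, h⟩ | ⟨h1, h⟩
      · exact Or.inl h
      · exact Or.inr ⟨h1, h⟩
  | minus F n e hn a b hab iso he =>
    obtain ⟨i⟩ := iso
    refine (minus_f2 hn a b hab ?_).congr i
    rcases he with ⟨h1, h2⟩ | ⟨h1, h2⟩
    · exact Or.inl ⟨h1, h2.imp (fun h => by omega) id⟩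
    · exact Or.inr ⟨h1, Or.inl h2⟩

theorem Fam2.primePow {L : Type*} [Group L] {q e n : ℕ} (h : Fam2 L q e n) : IsPrimePow q := by
  cases h with
  | sp F n e hn hn2 iso he => rw [Nat.card_eq_fintype_card]; exact Fintype.isPrimePow_card_of_field
  | odd F n e hn hodd iso he => rw [Nat.card_eq_fintype_card]; exact Fintype.isPrimePow_card_of_field
  | plus F n e hn iso he n' hn' => rw [Nat.card_eq_fintype_card]; exact Fintype.isPrimePow_card_of_field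
  | minus F n e hn a b hab iso he => rw [Nat.card_eq_fintype_card]; exact Fintype.isPrimePow_card_of_field

end Cfsg.Agent.H390
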