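import Mathlib
import Cfsg.Agent.H390.AltRed
import Cfsg.Agent.H390.Twelve
import Cfsg.Agent.S0270
import Cfsg.Agent.S0296
import Cfsg.Agent.S0246
import Cfsg.Agent.S0293

/-!
# `Sp₆(2)` and `Ω₈⁺(2)`: definitions (helper390)
-/

set_option autoImplicit false

namespace Cfsg.Agent.H390

open Subgroup Cfsg
open scoped Nat

/-- `L` is one of the two groups. -/
def Sm (L : Type*) [Group L] : Prop :=
  ∃ (F : Type) (_ : Field F) (_ : Fintype F), Fintype.card F = 2 ∧
    (Nonempty (L ≃* PSp 3 F) ∨ Nonempty (L ≃* POmega F (quadFormPlus 4 F)))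

/-- the families, `e = 4` only for `PSp₄(q)`, `q ≥ 4` -/
theorem exists_fam' {L : Type*} [Group L]
    (hL : (Cfsg.IsPSp L ∧ ∀ (F : Type) [Field F] [Fintype F], Fintype.card F = 3 → ¬ Nonempty (L ≃* Cfsg.PSp 2 F)) ∨
      Cfsg.IsPOmegaOdd L ∨ Cfsg.IsPOmegaPlus L ∨ Cfsg.IsPOmegaMinus L) :
    ∃ q e n D : ℕ, Fam L q e n D ∧ (e = 4 → 4 ≤ q) := by
  rcases hL with ⟨⟨F, _, _, n, hn, hn2, iso⟩, h3⟩ | ⟨F, _, _, n, hn, hodd, iso⟩ | ⟨F, _, _, n, hn, iso⟩ |
    ⟨F, _, _, n, a, b, hn, hab, iso⟩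
  · by_cases h : Even n ∨ Nat.card F % 3 = 1
    · refine ⟨_, _, _, _, Fam.sp F n (2 * n) hn hn2 iso (Or.inl ⟨rfl, h⟩), fun h4 => ?_⟩
      obtain rfl : n = 2 := by omega
      rw [Nat.card_eq_fintype_card]
      have h5 := hn2 rfl
      have h6 : Fintype.card F ≠ 3 := fun h7 => h3 F h7 iso
      omega
    · push Not at h
      have hn' : Odd n := Nat.not_even_iff_odd.1 h.1
      refine ⟨_, _, _, _, Fam.sp F n n hn hn2 iso (Or.inr ⟨rfl, hn', h.2⟩), fun h4 => ?_⟩
      exfalso
      rw [h4] at hn'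
      revert hn'
      decide
  · by_cases h : Even n ∨ Nat.card F % 3 = 1
    · exact ⟨_, _, _, _, Fam.odd F n (2 * n) hn hodd iso (Or.inl ⟨rfl, h⟩), fun h4 => by omega⟩
    · push Not at h
      have hn' : Odd n := Nat.not_even_iff_odd.1 h.1
      refine ⟨_, _, _, _, Fam.odd F n n hn hodd iso (Or.inr ⟨rfl, hn', h.2⟩), fun h4 => ?_⟩
      exfalso
      rw [h4] at hn'
      revert hn'
      decide
  · obtain ⟨n', hn'⟩ : ∃ n', (Odd n ∧ n' = n) ∨ (Even n ∧ n' = n - 1) := by
      rcases Nat.even_or_odd n with h | h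
      · exact ⟨n - 1, Or.inr ⟨h, rfl⟩⟩
      · exact ⟨n, Or.inl ⟨h, rfl⟩⟩
    by_cases h : Nat.card F % 3 = 1
    · exact ⟨_, _, _, _, Fam.plus F n _ hn iso (Or.inl ⟨rfl, h⟩) n' hn', fun h4 => by omega⟩
    · rcases Nat.even_or_odd n with h1 | h1
      · refine ⟨_, _, _, _, Fam.plus F n _ hn iso (Or.inr (Or.inr ⟨rfl, h1, h⟩)) n' hn', fun h4 => ?_⟩
        rw [Nat.even_iff] at h1
        omega
      · refine ⟨_, _, _, _, Fam.plus F n _ hn iso (Or.inr (Or.inl ⟨rfl, h1, h⟩)) n' hn', fun h4 => ?_⟩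
        rw [Nat.odd_iff] at h1
        omega
  · by_cases h : Nat.card F % 3 ≠ 2 ∨ Even n
    · exact ⟨_, _, _, _, Fam.minus F n _ hn a b hab iso (Or.inl ⟨rfl, h⟩), fun h4 => by omega⟩
    · push Not at h
      exact ⟨_, _, _, _, Fam.minus F n _ hn a b hab iso (Or.inr ⟨rfl, Nat.not_even_iff_odd.1 h.2, h.1⟩),
        fun h4 => by omega⟩

theorem fam_two_three {L : Type*} [Group L] {q e n D : ℕ} (h : Fam L q e n D) (hq : q = 2) (he : e = 3) : Sm L := by
  cases h with
  | sp F n e hn hn2 iso h =>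
    rw [Nat.card_eq_fintype_card] at hq h
    have h3 : n = 3 := by omega
    subst h3
    exact ⟨F, inferInstance, inferInstance, hq, Or.inl iso⟩
  | odd F n e hn hodd iso h =>
    exfalso
    rw [Nat.card_eq_fintype_card] at hq
    rw [hq] at hodd
    revert hodd
    decide
  | plus F n e hn iso h n' hn' =>
    rw [Nat.card_eq_fintype_card] at hq h
    rw [Nat.odd_iff, Nat.even_iff] at h
    have h4 : n = 4 := by omega
    subst h4
    exact ⟨F, inferInstance, inferInstance, hq, Or.inr iso⟩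
  | minus F n e hn a b hab iso h =>
    exfalso
    rw [Nat.odd_iff, Nat.even_iff] at h
    omega

theorem Sm.simple {G : Type*} [Group G] (hG : Sm G) : IsSimpleGroup G := by
  obtain ⟨F, _, _, hF, hi | hi⟩ := hG <;> obtain ⟨i⟩ := hi
  · have := Cfsg.Agent.S0270.result (F := F) 3 (by norm_num) (by norm_num)
    exact i.isSimpleGroup
  · have := Cfsg.Agent.S0296.result (F := F) 4 (by norm_num)
    exact i.isSimpleGroup

theorem Sm.card {G : Type*} [Group G] (hG : Sm G) : Nat.card G = 1451520 ∨ Nat.card G = 174182400 := by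
  obtain ⟨F, _, _, hF, hi | hi⟩ := hG <;> obtain ⟨i⟩ := hi
  · left
    rw [Nat.card_congr i.toEquiv]
    have h1 := Cfsg.Agent.S0245.result (F := F) hF 3
    have h2 := Cfsg.Agent.S0246.result (F := F) hF 3 (by norm_num)
    have h3 := Subgroup.card_mul_index (center (Matrix.symplecticGroup (Fin 3) F))
    rw [h1, h2] at h3
    have h4 : (center (Matrix.symplecticGroup (Fin 3) F)).index = Nat.card (PSp 3 F) := rfl
    rw [h4] at h3
    simp only [Finset.prod_range_succ, Finset.prod_range_zero] at h3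
    norm_num at h3
    exact h3
  · right
    rw [Nat.card_congr i.toEquiv]
    have h1 := Cfsg.Agent.S0293.result (F := F) hF 4 le_rfl
    simp only [Finset.prod_range_succ, Finset.prod_range_zero] at h1
    norm_num at h1
    exact h1

/-- a composition factor of a simple group has the order of the group -/
theorem card_factor {G : Type*} [Group G] [Finite G] (hG : IsSimpleGroup G) (H : Subgroup G) (hH : H.IsSubnormal)
    (N : Subgroup ↥H) [hN : N.Normal] (hs : IsSimpleGroup (↥H ⧸ N)) : Nat.card (↥H ⧸ N) = Nat.card G := by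
  have hnt : Nontrivial (↥H ⧸ N) := hs.toNontrivial
  rcases Subgroup.IsSubnormal.eq_bot_or_top_of_isSimpleGroup hG hH with rfl | rfl
  · exfalso
    have h1 : Nat.card (↥(⊥ : Subgroup G) ⧸ N) ∣ Nat.card (⊥ : Subgroup G) := Subgroup.card_quotient_dvd_card N
    rw [Subgroup.card_bot, Nat.dvd_one] at h1
    have := Finite.one_lt_card (α := ↥(⊥ : Subgroup G) ⧸ N)
    omega
  · have hst : IsSimpleGroup ↥(⊤ : Subgroup G) := (Subgroup.topEquiv (G := G)).isSimpleGroup
    rcases hN.eq_bot_or_eq_top with h | h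
    · subst h
      have h1 := Subgroup.card_mul_index (⊥ : Subgroup ↥(⊤ : Subgroup G))
      rw [Subgroup.card_bot, one_mul] at h1
      change Subgroup.index _ = _
      rw [h1, Subgroup.card_top]
    · exfalso
      have h1 : N.index = 1 := by rw [h, Subgroup.index_top]
      have h2 : Nat.card (↥(⊤ : Subgroup G) ⧸ N) = 1 := h1
      have := Finite.one_lt_card (α := ↥(⊤ : Subgroup G) ⧸ N)
      omega

end Cfsg.Agent.H390
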