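import Mathlib
import Cfsg.Agent.H390.TwoGraph
import Cfsg.Agent.S3359
import Cfsg.Agent.S0034
import Cfsg.Agent.S0035
import Cfsg.Agent.S0042

/-!
# Frobenius groups with nonsolvable complement (helper390)
-/

set_option autoImplicit false

namespace Cfsg.Agent.H390

open Subgroup
open scoped Pointwise

theorem frob_map {G L : Type*} [Group G] [Group L] (φ : G ≃* L) (C : Subgroup G)
    (hC : Cfsg.IsFrobeniusComplement C) : Cfsg.IsFrobeniusComplement (C.map φ.toMonoidHom) := by
  obtain ⟨h1, h2, h3⟩ := hC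
  have hinj : Function.Injective φ.toMonoidHom := φ.injective
  refine ⟨?_, ?_, ?_⟩
  · rw [Ne, Subgroup.map_eq_bot_iff_of_injective _ hinj]
    exact h1
  · intro h
    apply h2
    rw [← Subgroup.comap_map_eq_self_of_injective hinj C, h, Subgroup.comap_top]
  · intro g hg
    rw [eq_bot_iff]
    rintro x ⟨hx1, hx2⟩
    obtain ⟨y, hy, rfl⟩ := hx1
    have hg' : φ.symm g ∉ C := by
      intro h
      apply hg
      exact ⟨_, h, by simp⟩
    have hx2' : (MulAut.conj g)⁻¹ • (φ.toMonoidHom y) ∈ C.map φ.toMonoidHom :=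
      Subgroup.mem_pointwise_smul_iff_inv_smul_mem.1 hx2
    obtain ⟨z, hz, hz'⟩ := hx2'
    have h4 : φ z = g⁻¹ * φ y * g := by
      have h5 : φ.toMonoidHom z = (MulAut.conj g)⁻¹ • (φ.toMonoidHom y) := hz'
      rw [MulAut.smul_def, MulAut.conj_inv_apply] at h5
      exact h5
    have h5 : z = (φ.symm g)⁻¹ * y * φ.symm g := by
      apply φ.injective
      rw [h4]
      simp
    have h6 : y ∈ C ⊓ (MulAut.conj (φ.symm g) • C) := by
      refine ⟨hy, ?_⟩
      change y ∈ MulAut.conj (φ.symm g) • C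
      rw [Subgroup.mem_pointwise_smul_iff_inv_smul_mem, MulAut.smul_def, MulAut.conj_inv_apply, ← h5]
      exact hz
    rw [h3 _ hg', mem_bot] at h6
    rw [mem_bot, h6, map_one]

theorem frob_type {G : Type*} [Group G] [Finite G] (C : Subgroup G) (hC : Cfsg.IsFrobeniusComplement C) :
    ∃ (L : Type) (_ : Group L) (_ : Finite L) (H : Subgroup L), Cfsg.IsFrobeniusComplement H ∧ Nonempty (C ≃* H) := by
  let φ : G ≃* Shrink.{0} G := (Shrink.mulEquiv : Shrink.{0} G ≃* G).symm
  refine ⟨Shrink.{0} G, inferInstance, Finite.of_equiv _ φ.toEquiv, C.map φ.toMonoidHom, frob_map φ C hC, ⟨?_⟩⟩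
  exact Subgroup.equivMapOfInjective C φ.toMonoidHom φ.injective

theorem sl25_ten : ∃ A : Matrix.SpecialLinearGroup (Fin 2) (ZMod 5), orderOf A = 10 := by
  refine ⟨⟨!![4, 1; 0, 4], by decide⟩, ?_⟩
  refine orderOf_eq_of_pow_and_pow_div_prime (by norm_num) (by decide +kernel) fun p hp hpe => ?_
  have h1 : p ∣ 2 * 5 := hpe
  rcases hp.dvd_mul.1 h1 with h2 | h2
  · rw [(Nat.prime_dvd_prime_iff_eq hp Nat.prime_two).1 h2]
    decide +kernel
  · rw [(Nat.prime_dvd_prime_iff_eq hp (by norm_num)).1 h2]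
    decide +kernel

theorem sl25_three : ∃ A : Matrix.SpecialLinearGroup (Fin 2) (ZMod 5), orderOf A = 3 := by
  refine ⟨⟨!![0, 4; 1, 4], by decide⟩, ?_⟩
  have := Fact.mk Nat.prime_three
  refine orderOf_eq_prime (by decide +kernel) fun h => ?_
  have h1 := congrArg (fun B : Matrix.SpecialLinearGroup (Fin 2) (ZMod 5) =>
    (B : Matrix (Fin 2) (Fin 2) (ZMod 5)) 0 0) h
  revert h1
  decide

/-- a nonsolvable Frobenius complement has elements of order `10` but none of order `15`; its order is divisible by `30` -/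
theorem compl_orders {C : Type*} [Group C] [Finite C] (hns : ¬ Group.IsSolvable C)
    (hFC : ∃ (L : Type) (_ : Group L) (_ : Finite L) (H : Subgroup L), Cfsg.IsFrobeniusComplement H ∧ Nonempty (C ≃* H)) :
    (∃ c : C, orderOf c = 10) ∧ (∀ c : C, orderOf c ≠ 15) ∧ 15 ∣ Nat.card C := by
  obtain ⟨G₀, hn, hi, S, M, hSM, hb, hcomm, ⟨i⟩, -, hcop⟩ := Cfsg.Agent.S3359.result hns hFC
  obtain ⟨A, hA⟩ := sl25_ten
  refine ⟨⟨(i.symm A : C), ?_⟩, ?_, ?_⟩
  · rw [Subgroup.orderOf_coe, MulEquiv.orderOf_eq, hA]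
  · intro c hc
    have h1 : c ^ 2 ∈ G₀ := by
      rcases hi with h | h
      · rw [Subgroup.index_eq_one] at h
        rw [h]
        trivial
      · rw [← h]
        exact Subgroup.pow_index_mem G₀ c
    have h2 : c ∈ G₀ := by
      have h3 : c = (c ^ 2) ^ 8 := by
        rw [← pow_mul]
        calc c = c ^ (orderOf c) * c := by rw [pow_orderOf_eq_one, one_mul]
          _ = c ^ (2 * 8) := by rw [hc, ← pow_succ]
      rw [h3]
      exact pow_mem h1 8
    rw [← hSM] at h2
    have hMn : S ≤ normalizer (M : Set C) := by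
      intro s hs
      rw [Subgroup.mem_normalizer_iff]
      intro x
      constructor
      · intro hx
        rw [hcomm s hs x hx, mul_assoc, mul_inv_cancel, mul_one]
        exact hx
      · intro hx
        have h4 := hcomm s⁻¹ (inv_mem hs) _ hx
        have h5 : s⁻¹ * (s * x * s⁻¹) = x * s⁻¹ := by group
        have h6 : x = s * x * s⁻¹ := by
          have h7 : x * s⁻¹ = s * x * s⁻¹ * s⁻¹ := by rw [← h5, h4]
          exact mul_right_cancel h7
        rw [h6]
        exact hx
    have h3 : c ∈ (S : Set C) * (M : Set C) := by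
      rw [← Subgroup.coe_mul_of_left_le_normalizer_right S M hMn]
      exact h2
    obtain ⟨s, hs, x, hx, hsx⟩ := h3
    have hsx' : s * x = c := hsx
    have hcom : Commute s x := hcomm s hs x hx
    have h15 : s ^ 15 * x ^ 15 = 1 := by
      rw [← hcom.mul_pow, hsx', ← hc, pow_orderOf_eq_one]
    have hx15 : x ^ 15 ∈ S ⊓ M := by
      refine ⟨?_, pow_mem hx 15⟩
      rw [show x ^ 15 = (s ^ 15)⁻¹ from eq_inv_of_mul_eq_one_right h15]
      exact S.inv_mem (S.pow_mem hs 15)
    rw [hb, mem_bot] at hx15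
    have hx1 : orderOf x = 1 := by
      have h4 : orderOf x ∣ 15 := orderOf_dvd_of_pow_eq_one hx15
      have h5 : orderOf x ∣ Nat.card M := by
        have := orderOf_dvd_natCard (⟨x, hx⟩ : M)
        rwa [← Subgroup.orderOf_coe] at this
      have h6 : orderOf x ∣ Nat.gcd (Nat.card M) 30 := Nat.dvd_gcd h5 (h4.trans (by norm_num))
      rw [hcop.gcd_eq_one] at h6
      exact Nat.dvd_one.1 h6
    rw [orderOf_eq_one_iff] at hx1
    rw [hx1, mul_one] at hsx'
    have h7 := sl25 (i ⟨s, hs⟩)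
    apply h7
    rw [MulEquiv.orderOf_eq, ← Subgroup.orderOf_coe]
    change orderOf s = 15
    rw [hsx', hc]
  · have h5 : 5 ∣ Nat.card C := by
      have h1 : orderOf (i.symm A : C) = 10 := by rw [Subgroup.orderOf_coe, MulEquiv.orderOf_eq, hA]
      have h2 := orderOf_dvd_natCard (i.symm A : C)
      rw [h1] at h2
      exact (by norm_num : 5 ∣ 10).trans h2
    have h3 : 3 ∣ Nat.card C := by
      obtain ⟨B, hB⟩ := sl25_three
      have h1 : orderOf (i.symm B : C) = 3 := by rw [Subgroup.orderOf_coe, MulEquiv.orderOf_eq, hB]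
      have h2 := orderOf_dvd_natCard (i.symm B : C)
      rwa [h1] at h2
    exact Nat.Coprime.mul_dvd_of_dvd_of_dvd (by norm_num : Nat.Coprime 3 5) h3 h5

/-- **Frobenius groups with nonsolvable complement**: `10 ∈ ω(G)`, `15 ∉ ω(G)`. -/
theorem frob_orders {G : Type*} [Group G] [Finite G] (hns : ¬ Group.IsSolvable G) (C : Subgroup G)
    (hC : Cfsg.IsFrobeniusComplement C) : (∃ g : G, orderOf g = 10) ∧ ∀ g : G, orderOf g ≠ 15 := by
  obtain ⟨N, hN, hNn, hNnil⟩ := Cfsg.Agent.S0042.result C hC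
  obtain ⟨N', hN', hN'n, hcompl⟩ := Cfsg.Agent.S0035.result C hC
  obtain rfl : N = N' := SetLike.coe_injective (hN.trans hN'.symm)
  have i : G ⧸ N ≃* C := (hcompl.symm).QuotientMulEquiv
  have hCns : ¬ Group.IsSolvable C := by
    intro h
    apply hns
    have h1 : Group.IsSolvable (G ⧸ N) := Group.isSolvable_of_isSolvable_injective (f := i.toMonoidHom) i.injective
    have h2 : Group.IsSolvable N := inferInstance
    exact Group.isSolvable_of_ker_le_range N.subtype (QuotientGroup.mk' N) (by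
      rw [QuotientGroup.ker_mk', Subgroup.range_subtype])
  obtain ⟨⟨c, hc⟩, h15, hd⟩ := compl_orders hCns (frob_type C hC)
  refine ⟨⟨c, by rw [Subgroup.orderOf_coe, hc]⟩, ?_⟩
  intro g hg
  have hcard := Cfsg.Agent.S0034.result C hC
  have hindex : C.index % Nat.card C = 1 % Nat.card C := hcard.2
  have hNcard : Nat.card N = C.index := by
    rw [← hcard.1, ← hN]
    rfl
  have hcop : (Nat.card N).Coprime 15 := by
    have h1 : Nat.card N ≡ 1 [MOD 15] := by
      rw [hNcard]
      exact Nat.ModEq.of_dvd hd hindex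
    have h2 := h1.gcd_eq
    rw [Nat.Coprime, h2, Nat.gcd_one_left]
  apply h15 (i (QuotientGroup.mk' N g))
  rw [MulEquiv.orderOf_eq]
  have h1 : orderOf (QuotientGroup.mk' N g) ∣ 15 := by
    rw [← hg]
    exact orderOf_map_dvd _ g
  have h2 : g ^ orderOf (QuotientGroup.mk' N g) ∈ N := by
    rw [← QuotientGroup.eq_one_iff]
    exact pow_orderOf_eq_one (QuotientGroup.mk' N g)
  have h3 : orderOf (g ^ orderOf (QuotientGroup.mk' N g)) = 1 := by
    have h4 : orderOf (g ^ orderOf (QuotientGroup.mk' N g)) ∣ 15 := by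
      rw [← hg]
      exact orderOf_pow_dvd _
    have h5 : orderOf (g ^ orderOf (QuotientGroup.mk' N g)) ∣ Nat.card N := by
      have := orderOf_dvd_natCard (⟨_, h2⟩ : N)
      rwa [← Subgroup.orderOf_coe] at this
    have h6 := Nat.dvd_gcd h5 h4
    rw [hcop.gcd_eq_one] at h6
    exact Nat.dvd_one.1 h6
  rw [orderOf_eq_one_iff] at h3
  have h4 := orderOf_dvd_of_pow_eq_one h3
  rw [hg] at h4
  exact Nat.dvd_antisymm h1 h4

end Cfsg.Agent.H390
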