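import Mathlib
import Cfsg.Agent.H390.SmallDef
import Cfsg.Agent.S3407

/-!
# Groups isospectral to `Sp₆(2)` and `Ω₈⁺(2)` (helper390)
-/

set_option autoImplicit false

namespace Cfsg.Agent.H390

open Subgroup Cfsg
open scoped Nat

theorem Sm.iso {L : Type*} [Group L] [Finite L] (hL : Sm L) {G : Type*} [Group G] [Finite G]
    (h : Set.range (orderOf : G → ℕ) = Set.range (orderOf : L → ℕ)) : Sm G := by
  obtain ⟨F, _, _, hF, hiso⟩ := hL
  have h1 := (Cfsg.Agent.S3407.result (G := L) hF).2 hiso
  have h2 := (Cfsg.Agent.S3407.result (G := G) hF).1 (h.trans h1)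
  exact ⟨F, inferInstance, inferInstance, hF, h2⟩

theorem Sm.not_alt {L : Type*} [Group L] [Finite L] (hL : Sm L) {G : Type*} [Group G] [Finite G]
    (h : Set.range (orderOf : G → ℕ) = Set.range (orderOf : L → ℕ)) (H : Subgroup G) (hH : H.IsSubnormal)
    (N : Subgroup ↥H) [N.Normal] (hs : IsSimpleGroup (↥H ⧸ N)) {k : ℕ} (hk : 5 ≤ k)
    (e : (↥H ⧸ N) ≃* alternatingGroup (Fin k)) : False := by
  have hG := hL.iso h
  have h1 := card_factor hG.simple H hH N hs
  have h2 := card_alt k (by omega)
  rw [← Nat.card_congr e.toEquiv, h1] at h2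
  have h9 : k ≤ 9 ∨ k = 10 ∨ k = 11 ∨ 12 ≤ k := by omega
  rcases hG.card with h3 | h3 <;> rw [h3] at h2 <;> rcases h9 with h4 | rfl | rfl | h4
  · have := Nat.factorial_le h4
    rw [← h2] at this
    revert this
    decide
  · revert h2
    decide
  · revert h2
    decide
  · have := Nat.factorial_le h4
    rw [← h2] at this
    revert this
    decide
  · have := Nat.factorial_le h4
    rw [← h2] at this
    revert this
    decide
  · revert h2
    decide
  · revert h2
    decide
  · have := Nat.factorial_le h4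
    rw [← h2] at this
    revert this
    decide

end Cfsg.Agent.H390
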