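import Mathlib
import Cfsg.Agent.CpAutHe.Cnt

/-!
# The Held group has elements of order `28` (helper390)
-/

set_option autoImplicit false

namespace Cfsg.Agent.H390.HeT

open Cfsg.Spor Cfsg.Spor.He Cfsg.Agent.SporadicB.HePerm
open Cfsg.Agent.FixBN.HeStab Cfsg.Agent.KFacts.He.Lv Cfsg.Agent.CpAutHe.Cnt

/-- the word -/
def W : List Gen := [.f, .a, .e, .b, .g, .d]

set_option maxRecDepth 100000 in
theorem c28 : act (pw W 28) 5 = 5 := by decide +kernel

set_option maxRecDepth 100000 in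
theorem c14 : act (pw W 14) 5 ≠ 5 := by decide +kernel

set_option maxRecDepth 100000 in
theorem c4 : act (pw W 4) 5 ≠ 5 := by decide +kernel

theorem per (k : ℕ) : Function.IsPeriodicPt (phi (wd W)) k (5 : Fin 2058) ↔ act (pw W k) 5 = 5 := by
  have h := act_eq (pw W k) (5 : Fin 2058)
  rw [wd_pw, map_pow] at h
  have h5 : ((5 : Fin 2058) : ℕ) = 5 := rfl
  rw [h5] at h
  rw [h]
  constructor
  · intro h1
    have h2 : ((phi (wd W)) ^ k) (5 : Fin 2058) = 5 := by
      rw [← Equiv.Perm.iterate_eq_pow]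
      exact h1
    rw [h2]
    rfl
  · intro h1
    have h2 : ((phi (wd W)) ^ k) (5 : Fin 2058) = 5 := Fin.ext h1
    rw [← Equiv.Perm.iterate_eq_pow] at h2
    exact h2

theorem dvd_order : 28 ∣ orderOf (wd W) := by
  have h1 : Function.IsPeriodicPt (phi (wd W)) (orderOf (wd W)) (5 : Fin 2058) := by
    have h2 : ((phi (wd W)) ^ orderOf (wd W)) (5 : Fin 2058) = 5 := by
      rw [← map_pow, pow_orderOf_eq_one, map_one]
      rfl
    rw [← Equiv.Perm.iterate_eq_pow] at h2
    exact h2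
  have h2 := ((per 28).2 c28).gcd h1
  set d := Nat.gcd 28 (orderOf (wd W)) with hd
  have hdv : d ∣ 28 := Nat.gcd_dvd_left _ _
  by_contra hcon
  have hne : d ≠ 28 := by
    intro h
    apply hcon
    rw [← h]
    exact Nat.gcd_dvd_right _ _
  have h3 : d ∣ 14 ∨ d ∣ 4 := by
    have h4 : d ∈ Nat.divisors 28 := Nat.mem_divisors.2 ⟨hdv, by norm_num⟩
    have h5 : Nat.divisors 28 = {1, 2, 4, 7, 14, 28} := by decide
    rw [h5] at h4
    simp only [Finset.mem_insert, Finset.mem_singleton] at h4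
    rcases h4 with h | h | h | h | h | h <;> rw [h] at hne ⊢ <;> first | (left; decide) | (right; decide) | exact absurd rfl hne
  rcases h3 with h3 | h3
  · exact c14 ((per 14).1 (h2.trans_dvd h3))
  · exact c4 ((per 4).1 (h2.trans_dvd h3))

theorem he28 [Finite Cfsg.Spor.He] : ∃ x : Cfsg.Spor.He, orderOf x = 28 := by
  obtain ⟨c, hc⟩ := dvd_order
  have hpos := orderOf_pos (wd W)
  have hc0 : c ≠ 0 := by
    rintro rfl
    rw [hc, mul_zero] at hpos
    exact lt_irrefl 0 hpos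
  refine ⟨wd W ^ c, ?_⟩
  rw [orderOf_pow' _ hc0, hc, Nat.gcd_eq_right (Dvd.intro_left _ rfl), Nat.mul_div_cancel _ (Nat.pos_of_ne_zero hc0)]

theorem iso28 {X : Type*} [Group X] [Finite X] (h : Spor.IsoHe X) : ∃ x : X, orderOf x = 28 := by
  obtain ⟨i⟩ := h
  have : Finite Cfsg.Spor.He := Finite.of_equiv X i.toEquiv
  obtain ⟨x, hx⟩ := he28
  exact ⟨i.symm x, by rw [MulEquiv.orderOf_eq, hx]⟩

end Cfsg.Agent.H390.HeT
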