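import Mathlib
import Cfsg.Agent.H390.TwoDim
import Cfsg.Agent.H390.Twelve
import Cfsg.Agent.ClassicalGeometry.TwoFamilies
import Cfsg.Agent.H150.FarSp

/-!
# `Sp₈(2)` has no elements of order `28` (helper390)
-/

set_option autoImplicit false
set_option linter.unusedSectionVars false

namespace Cfsg.Agent.H390.SpEl

open Module Cfsg Cfsg.Agent.H150
open Cfsg.Agent.ClassicalGeometry.SympBasic Cfsg.Agent.ClassicalGeometry.SympIso

variable {F : Type*} [Field F]

section
variable {V : Type*} [AddCommGroup V] [Module F V] [FiniteDimensional F V]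

theorem map_eq_bot_of_nilp (N : Module.End F V) (hN : IsNilpotent N) (U : Submodule F V) (h : U ≤ U.map N) : U = ⊥ := by
  obtain ⟨k, hk⟩ := hN
  have h1 : ∀ j : ℕ, ∀ v ∈ U, ∃ w ∈ U, (N ^ j) w = v := by
    intro j
    induction j with
    | zero => intro v hv; exact ⟨v, hv, rfl⟩
    | succ j ih =>
      intro v hv
      obtain ⟨w, hw, rfl⟩ := ih v hv
      obtain ⟨z, hz, rfl⟩ := h hw
      exact ⟨z, hz, by rw [pow_succ, Module.End.mul_apply]⟩
  rw [eq_bot_iff]
  intro v hv
  obtain ⟨w, hw, rfl⟩ := h1 k v hv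
  rw [hk]
  exact Submodule.zero_mem _

/-- a nilpotent map on a space of dimension at most `2 d`, the images of dimensions divisible by `d` -/
theorem sq_zero_of_dims (N : Module.End F V) (hN : IsNilpotent N) (U : Submodule F V) (hU : U.map N ≤ U) {d : ℕ}
    (hd0 : 0 < d) (hd : ∀ j : ℕ, d ∣ finrank F (U.map (N ^ j) : Submodule F V)) (hdim : finrank F U ≤ 2 * d) :
    ∀ v ∈ U, N (N v) = 0 := by
  have e1 : U.map (N ^ 1) = U.map N := by rw [pow_one]
  have e2 : U.map (N ^ 2) = (U.map N).map N := by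
    rw [← Submodule.map_comp, pow_two]
    rfl
  have e0 : U.map (N ^ 0) = U := by
    rw [pow_zero]
    exact Submodule.map_id U
  obtain ⟨a, ha⟩ := hd 0
  obtain ⟨b, hb⟩ := hd 1
  obtain ⟨c, hc⟩ := hd 2
  rw [e0] at ha
  rw [e1] at hb
  rw [e2] at hc
  have h21 : (U.map N).map N ≤ U.map N := Submodule.map_mono hU
  by_contra hcon
  push Not at hcon
  obtain ⟨v, hv, hv0⟩ := hcon
  have hne : (U.map N).map N ≠ ⊥ := by
    intro h
    have h1 : N (N v) ∈ (U.map N).map N := ⟨N v, ⟨v, hv, rfl⟩, rfl⟩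
    rw [h, Submodule.mem_bot] at h1
    exact hv0 h1
  have hlt1 : finrank F ((U.map N).map N : Submodule F V) < finrank F (U.map N : Submodule F V) := by
    refine Submodule.finrank_lt_finrank_of_lt (lt_of_le_of_ne h21 fun h => ?_)
    have h1 := map_eq_bot_of_nilp N hN (U.map N) h.ge
    apply hne
    rw [h1, Submodule.map_bot]
  have hlt2 : finrank F (U.map N : Submodule F V) < finrank F U := by
    refine Submodule.finrank_lt_finrank_of_lt (lt_of_le_of_ne hU fun h => ?_)
    have h1 := map_eq_bot_of_nilp N hN U h.ge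
    apply hne
    rw [h1, Submodule.map_bot, Submodule.map_bot]
  have hpos : 0 < finrank F ((U.map N).map N : Submodule F V) := by
    rw [Nat.pos_iff_ne_zero, Ne, Submodule.finrank_eq_zero]
    exact hne
  rw [ha, hb] at hlt2
  rw [hb, hc] at hlt1
  rw [hc] at hpos
  rw [ha] at hdim
  have h1 := Nat.pos_of_mul_pos_left hpos
  have h2 := Nat.lt_of_mul_lt_mul_left hlt1
  have h3 := Nat.lt_of_mul_lt_mul_left hlt2
  have h4 : a ≤ 2 := by
    by_contra hc
    push Not at hc
    have h5 := Nat.mul_le_mul_left d (show 3 ≤ a from hc)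
    omega
  omega

/-- dimensions of invariant subspaces without fixed vectors -/
theorem dvd_finrank_of_fpf [Finite F] {r : ℕ} (hr : r.Prime) (x : Module.End F V) (hx : x ^ r = 1) (U : Submodule F V)
    (hU : ∀ v ∈ U, x v ∈ U) (hf : ∀ v ∈ U, x v = v → v = 0) : orderOf ((Nat.card F : ℕ) : ZMod r) ∣ finrank F U := by
  have : Finite V := Module.finite_of_finite F
  let σ : ↥U → ↥U := fun v => ⟨x v, hU v v.2⟩
  have hσ : ∀ (j : ℕ) (v : ↥U), ((σ^[j] v : ↥U) : V) = (x ^ j) v := by
    intro j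
    induction j with
    | zero => intro v; rfl
    | succ j ih =>
      intro v
      rw [Function.iterate_succ_apply, ih, pow_succ, Module.End.mul_apply]
  have h1 := Dec.modEq_fixed hr σ (fun v => Subtype.ext (by rw [hσ, hx]; rfl))
  have h2 : Nat.card {a // σ a = a} = 1 := by
    rw [Nat.card_eq_one_iff_unique]
    refine ⟨⟨?_⟩, ⟨⟨0, Subtype.ext (by show x (0 : V) = 0; rw [map_zero])⟩⟩⟩
    rintro ⟨a, ha⟩ ⟨b, hb⟩
    have h3 : ∀ a : ↥U, σ a = a → a = 0 := fun a ha => Subtype.ext (hf a a.2 (congrArg Subtype.val ha))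
    apply Subtype.ext
    exact (h3 a ha).trans (h3 b hb).symm
  rw [h2, Module.natCard_eq_pow_finrank (K := F)] at h1
  rw [orderOf_dvd_iff_pow_eq_one, ← Nat.cast_pow, ← Nat.cast_one, ZMod.natCast_eq_natCast_iff]
  exact h1

/-- decomposition for an element of order prime to the characteristic -/
theorem exists_decomp (x : Module.End F V) {r : ℕ} (hr : (r : F) ≠ 0) (hx : x ^ r = 1) (v : V) :
    ∃ a ∈ LinearMap.ker (x - 1), ∃ b ∈ LinearMap.range (x - 1), v = a + b := by
  have h1 : (x - 1) * ∑ i ∈ Finset.range r, x ^ i = 0 := by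
    rw [mul_comm_of_geom, geom_sum_mul, hx, sub_self]
  have h2 : ∀ i : ℕ, ∃ w, (x ^ i) v = v + (x - 1) w := by
    intro i
    induction i with
    | zero => exact ⟨0, by rw [map_zero, add_zero, pow_zero]; rfl⟩
    | succ i ih =>
      obtain ⟨w, hw⟩ := ih
      refine ⟨(x w) + v, ?_⟩
      rw [pow_succ', Module.End.mul_apply, hw, map_add, map_add]
      have h3 : x ((x - 1) w) = (x - 1) (x w) := by
        simp only [LinearMap.sub_apply, Module.End.one_apply, map_sub]
      rw [h3]
      simp only [LinearMap.sub_apply, Module.End.one_apply]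
      abel
  have h3 : ∃ w, (∑ i ∈ Finset.range r, x ^ i) v = (r : F) • v + (x - 1) w := by
    have h4 : ∀ n : ℕ, ∃ w, (∑ i ∈ Finset.range n, x ^ i) v = (n : F) • v + (x - 1) w := by
      intro n
      induction n with
      | zero => exact ⟨0, by simp⟩
      | succ n ih =>
        obtain ⟨w, hw⟩ := ih
        obtain ⟨z, hz⟩ := h2 n
        refine ⟨w + z, ?_⟩
        rw [Finset.sum_range_succ, LinearMap.add_apply, hw, hz, map_add, Nat.cast_succ, add_smul, one_smul]
        abel
    exact h4 r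
  obtain ⟨w, hw⟩ := h3
  refine ⟨(r : F)⁻¹ • (∑ i ∈ Finset.range r, x ^ i) v, ?_, (x - 1) (-((r : F)⁻¹ • w)), ⟨_, rfl⟩, ?_⟩
  · rw [LinearMap.mem_ker, map_smul, ← Module.End.mul_apply, h1, LinearMap.zero_apply, smul_zero]
  · rw [hw, map_neg, map_smul, smul_add, smul_smul, inv_mul_cancel₀ hr, one_smul]
    abel
where
  mul_comm_of_geom {x : Module.End F V} {r : ℕ} :
      (x - 1) * ∑ i ∈ Finset.range r, x ^ i = (∑ i ∈ Finset.range r, x ^ i) * (x - 1) := by
    have h : Commute (x - 1) (∑ i ∈ Finset.range r, x ^ i) := by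
      apply Commute.sum_right
      intro i _
      exact ((Commute.refl x).sub_left (Commute.one_left x)).pow_right i
    exact h.eq

theorem ker_inf_range (x : Module.End F V) {r : ℕ} (hr : (r : F) ≠ 0) (hx : x ^ r = 1) {v : V}
    (h1 : v ∈ LinearMap.ker (x - 1)) (h2 : v ∈ LinearMap.range (x - 1)) : v = 0 := by
  obtain ⟨w, rfl⟩ := h2
  have hfix : x ((x - 1) w) = (x - 1) w := by
    rw [LinearMap.mem_ker, LinearMap.sub_apply, Module.End.one_apply, sub_eq_zero] at h1
    exact h1
  have h3 : ∀ i : ℕ, (x ^ i) w = w + (i : F) • (x - 1) w := by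
    intro i
    induction i with
    | zero => rw [pow_zero, Nat.cast_zero, zero_smul, add_zero]; rfl
    | succ i ih =>
      rw [pow_succ', Module.End.mul_apply, ih, map_add, map_smul, hfix, Nat.cast_succ, add_smul, one_smul]
      have : x w = w + (x - 1) w := by
        simp only [LinearMap.sub_apply, Module.End.one_apply]
        abel
      rw [this]
      abel
  have h4 := h3 r
  rw [hx, Module.End.one_apply] at h4
  have h5 : (r : F) • (x - 1) w = 0 := by
    have := h4.symm
    rwa [add_eq_left] at this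
  exact (smul_eq_zero.1 h5).resolve_left hr

theorem finrank_ker_add_range (x : Module.End F V) :
    finrank F (LinearMap.ker (x - 1)) + finrank F (LinearMap.range (x - 1)) = finrank F V := by
  rw [add_comm]
  exact LinearMap.finrank_range_add_finrank_ker (x - 1)

/-- the range of `x - 1` has even dimension for an isometry of order prime to the characteristic -/
theorem even_range (B : LinearMap.BilinForm F V) (hA : B.IsAlt) (hnd : ∀ u, (∀ v, B u v = 0) → u = 0)
    (x : Module.End F V) (hxB : ∀ v w, B (x v) (x w) = B v w) {r : ℕ} (hr : (r : F) ≠ 0) (hx : x ^ r = 1) :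
    Even (finrank F (LinearMap.range (x - 1))) := by
  set U := LinearMap.range (x - 1) with hU
  obtain ⟨m, hm⟩ := Cfsg.Agent.ClassicalGeometry.TwoFamilies.exists_finrank_eq_ker_add (B.restrict U)
    (fun v => hA v)
  have h0 : LinearMap.ker (B.restrict U) = ⊥ := by
    rw [eq_bot_iff]
    intro u hu
    rw [LinearMap.mem_ker] at hu
    rw [Submodule.mem_bot]
    apply Subtype.ext
    apply hnd
    intro v
    obtain ⟨a, ha, b, hb, rfl⟩ := exists_decomp x hr hx v
    have h1 : B u b = 0 := by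
      have := congrArg (fun f => f ⟨b, hb⟩) hu
      exact this
    have h2 : B u a = 0 := by
      obtain ⟨w, hw⟩ := u.2
      rw [LinearMap.mem_ker, LinearMap.sub_apply, Module.End.one_apply, sub_eq_zero] at ha
      have h3 : B (x w) a = B w a := by
        conv_lhs => rw [← ha]
        exact hxB w a
      rw [← hw, LinearMap.sub_apply, Module.End.one_apply, map_sub, LinearMap.sub_apply, h3, sub_self]
    rw [map_add, h1, h2, add_zero]
  rw [h0, finrank_bot, zero_add] at hm
  exact ⟨m, hm⟩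

end

theorem sp8_28 [Fintype F] (h : Fintype.card F = 2) (g : PSp 4 F) : orderOf g ≠ 28 := by
  intro hg
  have h2 := two_eq_zero h
  have hc : Nat.card F = 2 := by rw [Nat.card_eq_fintype_card, h]
  obtain ⟨A, rfl⟩ := QuotientGroup.mk_surjective g
  have hTj : ∀ j, (spLin A) ^ j = 1 ↔ 28 ∣ j := fun j => by
    rw [← hg, orderOf_dvd_iff_pow_eq_one, spLin_pow_iff (by norm_num), Dec.neg_one_eq_one h2, or_self]
  have hTB := spLin_isom A
  generalize spLin A = T at hTj hTB
  have h28 : T ^ 28 = 1 := (hTj 28).2 dvd_rfl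
  have hV : finrank F (Fin 4 ⊕ Fin 4 → F) = 8 := by
    rw [Module.finrank_fintype_fun_eq_card]
    rfl
  have h7 : ((7 : ℕ) : F) ≠ 0 := by
    have h71 : ((7 : ℕ) : F) = 1 := by
      push_cast
      linear_combination (3 : F) * h2
    rw [h71]
    exact one_ne_zero
  set s := T ^ 4 with hs
  set u := T ^ 7 with hu
  have hs7 : s ^ 7 = 1 := by rw [hs, ← pow_mul]; exact h28
  have hu4 : u ^ 4 = 1 := by rw [hu, ← pow_mul]; exact h28
  have hsu : Commute s u := (Commute.refl T).pow_pow 4 7
  have hsB : ∀ v w, sympBilin 4 F (s v) (s w) = sympBilin 4 F v w := isom_pow _ T hTB 4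
  -- the nilpotent part
  have hsq : ∀ z : Module.End F (Fin 4 ⊕ Fin 4 → F), (z - 1) ^ 2 = z ^ 2 - 1 := by
    intro z
    have h4 : (z - 1) ^ 2 = z ^ 2 - 1 - (2 : ℕ) • (z - 1) := by
      rw [pow_two, pow_two, sub_mul, mul_sub, mul_one, one_mul]
      abel
    rw [h4, ← Nat.cast_smul_eq_nsmul F, Nat.cast_ofNat, h2, zero_smul, sub_zero]
  have hN : IsNilpotent (u - 1) := by
    refine ⟨2 * 2, ?_⟩
    rw [pow_mul, hsq, hsq, ← pow_mul, hu4, sub_self]
  have hcN : Commute s (u - 1) := hsu.sub_right (Commute.one_right s)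
  have ord7 : orderOf ((Nat.card F : ℕ) : ZMod 7) = 3 := by
    rw [hc]
    refine orderOf_zmod (by norm_num) (by norm_num) (by decide) fun p hp hpe => ?_
    rw [(Nat.prime_dvd_prime_iff_eq hp Nat.prime_three).1 hpe]
    decide
  set K := LinearMap.ker (s - 1) with hK
  set R := LinearMap.range (s - 1) with hR
  have hRinv : ∀ v ∈ R, s v ∈ R := by
    rintro _ ⟨w, rfl⟩
    exact ⟨s w, by simp [LinearMap.sub_apply, map_sub]⟩
  have hfix : ∀ v ∈ R, s v = v → v = 0 := by
    intro v hv hsv
    refine ker_inf_range s h7 hs7 ?_ hv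
    rw [LinearMap.mem_ker, LinearMap.sub_apply, Module.End.one_apply, hsv, sub_self]
  have h3R := dvd_finrank_of_fpf (by norm_num : Nat.Prime 7) s hs7 R hRinv hfix
  rw [ord7] at h3R
  have h2R := even_range (sympBilin 4 F) sympBilin_isAlt (fun u hu => eq_zero_of_forall_sympForm_right hu) s hsB h7 hs7
  rw [← hR] at h2R
  have hsum := finrank_ker_add_range s
  rw [← hR, ← hK, hV] at hsum
  have hR0 : finrank F R ≠ 0 := by
    intro h0
    rw [Submodule.finrank_eq_zero] at h0
    have h1 : s = 1 := by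
      rw [← sub_eq_zero]
      exact LinearMap.range_eq_bot.1 h0
    have h3 := (hTj 4).1 h1
    norm_num at h3
  obtain ⟨a, ha⟩ := h3R
  obtain ⟨b, hb⟩ := h2R
  have hR6 : finrank F R = 6 := by omega
  have hK2 : finrank F K = 2 := by omega
  have hNs : ∀ (j : ℕ) (w : Fin 4 ⊕ Fin 4 → F), s (((u - 1) ^ j) w) = ((u - 1) ^ j) (s w) := by
    intro j w
    rw [← Module.End.mul_apply, (hcN.pow_right j).eq, Module.End.mul_apply]
  have hRN : ∀ (j : ℕ), ∀ v ∈ R, ((u - 1) ^ j) v ∈ R := by
    rintro j _ ⟨w, rfl⟩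
    refine ⟨((u - 1) ^ j) w, ?_⟩
    rw [LinearMap.sub_apply, Module.End.one_apply, LinearMap.sub_apply, Module.End.one_apply, map_sub, hNs]
  have hKN : ∀ v ∈ K, (u - 1) v ∈ K := by
    intro v hv
    rw [LinearMap.mem_ker, LinearMap.sub_apply, Module.End.one_apply, sub_eq_zero] at hv ⊢
    have := hNs 1 v
    rw [pow_one] at this
    rw [this, hv]
  have hNK : ∀ v ∈ K, (u - 1) ((u - 1) v) = 0 := by
    refine sq_zero_of_dims (u - 1) hN K ?_ (d := 1) one_pos (fun j => one_dvd _) (by omega)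
    rintro _ ⟨v, hv, rfl⟩
    exact hKN v hv
  have hNR : ∀ v ∈ R, (u - 1) ((u - 1) v) = 0 := by
    refine sq_zero_of_dims (u - 1) hN R ?_ (d := 3) (by norm_num) (fun j => ?_) (by omega)
    · rintro _ ⟨v, hv, rfl⟩
      have := hRN 1 v hv
      rwa [pow_one] at this
    · rw [← ord7]
      refine dvd_finrank_of_fpf (by norm_num : Nat.Prime 7) s hs7 _ ?_ ?_
      · rintro _ ⟨v, hv, rfl⟩
        exact ⟨s v, hRinv v hv, (hNs j v).symm⟩
      · rintro _ ⟨v, hv, rfl⟩ hsv
        exact hfix _ (hRN j v hv) hsv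
  have hu2 : u ^ 2 = 1 := by
    have h1 : (u - 1) ^ 2 = 0 := by
      apply LinearMap.ext
      intro v
      obtain ⟨a, ha, b, hb, rfl⟩ := exists_decomp s h7 hs7 v
      rw [pow_two, Module.End.mul_apply, map_add, map_add, hNK a ha, hNR b hb, add_zero, LinearMap.zero_apply]
    rw [hsq, sub_eq_zero] at h1
    exact h1
  rw [hu, ← pow_mul] at hu2
  have h3 := (hTj _).1 hu2
  norm_num at h3

end Cfsg.Agent.H390.SpEl
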