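import Mathlib
import Cfsg.Agent.H390.F2All
import Cfsg.Agent.H390.Cocl
import Cfsg.Agent.H390.Twelve

/-!
# Sporadic and Tits composition factors: the surviving groups (helper390)
-/

set_option autoImplicit false
set_option linter.unusedSectionVars false

namespace Cfsg.Agent.H390

open Module Cfsg Matrix NonAdj QuadraticMap
open Cfsg.Agent.LieClassical.OrthCount Cfsg.Agent.LieClassical.OmegaReindex Cfsg.Agent.LieClassical

/-- nonadjacency and divisibility for the classes -/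
def NDv (L : Type*) [Group L] (q n m : ℕ) : Prop :=
  NA L q n ∧ ∀ r e η : ℕ, r.Prime → orderOf (q : ZMod r) = e → 3 ≤ e → IsEta e η → η ≤ m → r ∣ Nat.card L

theorem NDv.congr {L L' : Type*} [Group L] [Group L'] {q n m : ℕ} (h : NDv L' q n m) (i : L ≃* L') : NDv L q n m := by
  refine ⟨?_, ?_⟩
  · intro r s er es ηr ηs hr hs her hes hrs h3r h3s hηr hηs hle h2 hsum hrat g hg
    exact h.1 r s er es ηr ηs hr hs her hes hrs h3r h3s hηr hηs hle h2 hsum hrat (i g) (by rw [MulEquiv.orderOf_eq, hg])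
  · intro r e η hr he h3 hη hle
    rw [Nat.card_congr i.toEquiv]
    exact h.2 r e η hr he h3 hη hle

theorem nd_psp {F : Type} [Field F] [Fintype F] {n : ℕ} (hn : 2 ≤ n) (hn2 : n = 2 → 3 ≤ Fintype.card F) :
    NDv (PSp n F) (Nat.card F) n n := by
  have hq : Nat.card F = Fintype.card F := Nat.card_eq_fintype_card
  have hq1 : 1 < Nat.card F := Finite.one_lt_card
  refine ⟨na_psp hn hn2, ?_⟩
  intro r e η hr he h3 hη hle
  obtain ⟨hr2, hr3, hrq, -, -⟩ := prim_cond hr he h3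
  have h1 : r ∣ Nat.card (Matrix.symplecticGroup (Fin n) F) := by
    rw [Cfsg.Agent.S0245.result (F := F) rfl n]
    apply Dvd.dvd.mul_left
    rw [← hq]
    exact dvd_of_eta hq1.le he hη (hη.ne (by omega)) hle
  have := Fact.mk hr
  obtain ⟨y, hy⟩ := exists_prime_orderOf_dvd_card' r h1
  obtain ⟨x, hx⟩ := Lift.desc_odd _ (fun z hz => Cfsg.Agent.H376.SpEmb.center_pow z hz) (hr.odd_of_ne_two hr2) ⟨y, hy⟩
  rw [← hx]
  exact orderOf_dvd_natCard x

theorem nd_odd {F : Type} [Field F] [Fintype F] {n : ℕ} (hn : 3 ≤ n) (hodd : Odd (Fintype.card F)) :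
    NDv (POmega F (quadFormOdd n F)) (Nat.card F) n n := by
  have h2 := two_ne_zero_of_odd hodd
  have hq : Nat.card F = Fintype.card F := Nat.card_eq_fintype_card
  have hq1 : 1 < Nat.card F := Finite.one_lt_card
  have hcard : Fintype.card (Unit ⊕ (Fin n ⊕ Fin n)) = 2 * n + 1 := by simp; ring
  have hord := Cfsg.Agent.S0292.result (F := F) rfl hodd n hn
  have hD : Lift.Data (quadOdd n F) := data_of _ (quadOdd_nondegenerate h2) (by rw [hcard]; omega)
    (quadOdd_isotropic (by omega)) (Or.inr (by rw [hcard]; omega))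
  rw [← coe_quadOdd] at hord ⊢
  refine ⟨na_pomega hD (n := n) (by rw [hcard]), ?_⟩
  intro r e η hr he h3 hη hle
  obtain ⟨hr2, hr3, hrq, -, -⟩ := prim_cond hr he h3
  have h3 : r ∣ 2 * Nat.card (POmega F ⇑(quadOdd n F)) := by
    rw [hord]
    apply Dvd.dvd.mul_left
    rw [← hq]
    exact dvd_of_eta hq1.le he hη (hη.ne (by omega)) hle
  rcases hr.dvd_mul.1 h3 with h4 | h4
  · exact absurd ((Nat.prime_dvd_prime_iff_eq hr Nat.prime_two).1 h4) hr2
  · exact h4

theorem nd_minus {F : Type} [Field F] [Fintype F] {n : ℕ} (hn : 4 ≤ n) (a b : F)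
    (hab : ∀ z₁ z₂ : F, z₁ ^ 2 + a * z₁ * z₂ + b * z₂ ^ 2 = 0 → z₁ = 0 ∧ z₂ = 0) :
    NDv (POmega F (quadFormMinus (n - 1) F a b)) (Nat.card F) n (n - 1) := by
  have hq : Nat.card F = Fintype.card F := Nat.card_eq_fintype_card
  have hq1 : 1 < Nat.card F := Finite.one_lt_card
  have hcard : Fintype.card ((Fin (n - 1) ⊕ Fin (n - 1)) ⊕ Fin 2) = 2 * n := by simp; omega
  have hord := Cfsg.Agent.S0294.result (F := F) rfl n hn a b hab
  have hD : Lift.Data (quadMinus (n - 1) F a b) := data_of _ (quadMinus_nondegenerate hab) (by rw [hcard]; omega)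
    (quadMinus_isotropic (by omega) a b) (Or.inr (by rw [hcard]; omega))
  rw [← coe_quadMinus] at hord ⊢
  refine ⟨na_pomega hD (n := n) (by rw [hcard]; omega), ?_⟩
  intro r e η hr he h3 hη hle
  obtain ⟨hr2, hr3, hrq, -, -⟩ := prim_cond hr he h3
  refine dvd_of_gcd_mul hr hr2 hord (dvd_mul_of_dvd_right ?_ _)
  rw [← hq]
  exact dvd_of_eta hq1.le he hη (hη.ne (by omega)) hle

theorem nd_plus {F : Type} [Field F] [Fintype F] {n : ℕ} (hn : 4 ≤ n) :
    NDv (POmega F (quadFormPlus n F)) (Nat.card F) n (n - 1) := by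
  have hq : Nat.card F = Fintype.card F := Nat.card_eq_fintype_card
  have hq1 : 1 < Nat.card F := Finite.one_lt_card
  have hcard : Fintype.card (Fin n ⊕ Fin n) = 2 * n := by simp; ring
  have hord := Cfsg.Agent.S0293.result (F := F) rfl n hn
  have hD : Lift.Data (quadPlus n F) := data_of _ quadPlus_nondegenerate (by rw [hcard]; omega)
    (quadPlus_isotropic (by omega)) (Or.inr (by rw [hcard]; omega))
  rw [← coe_quadPlus] at hord ⊢
  refine ⟨na_pomega hD (n := n) (by rw [hcard]; omega), ?_⟩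
  intro r e η hr he h3 hη hle
  obtain ⟨hr2, hr3, hrq, -, -⟩ := prim_cond hr he h3
  refine dvd_of_gcd_mul hr hr2 hord (dvd_mul_of_dvd_right ?_ _)
  rw [← hq]
  exact dvd_of_eta hq1.le he hη (hη.ne (by omega)) hle

/-- three pairwise nonadjacent primes -/
structure Coc3 (L : Type*) [Group L] (r s t : ℕ) : Prop where
  dr : r ∣ Nat.card L
  ds : s ∣ Nat.card L
  dt : t ∣ Nat.card L
  rs : ∀ g : L, orderOf g ≠ r * s
  rt : ∀ g : L, orderOf g ≠ r * t
  st : ∀ g : L, orderOf g ≠ s * t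

theorem no_rat_of {a b : ℕ} (h : (List.range (a + 1)).all (fun t => Nat.beq (t % 2) 0 || !(Nat.beq a (b * t))) = true)
    (ha : 0 < a) : ¬ ∃ t : ℕ, Odd t ∧ a = b * t := by
  rintro ⟨t, ht, h1⟩
  have hb : 0 < b := by
    rcases Nat.eq_zero_or_pos b with rfl | h
    · omega
    · exact h
  have h2 : t < a + 1 := by
    have : 1 * t ≤ b * t := Nat.mul_le_mul_right t hb
    omega
  have h3 := List.all_eq_true.1 h t (List.mem_range.2 h2)
  rw [Bool.or_eq_true, Nat.beq_eq, Bool.not_eq_true', ← Bool.not_eq_true, Nat.beq_eq] at h3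
  rw [Nat.odd_iff] at ht
  rcases h3 with h3 | h3
  · omega
  · exact h3 h1

theorem ord_of_chk {q r e : ℕ} (he : 1 ≤ e)
    (h : (Nat.beq (q ^ e % r) (1 % r) && (List.range e).all fun d => Nat.beq d 0 || !(Nat.beq (q ^ d % r) (1 % r))) = true) :
    orderOf (q : ZMod r) = e := by
  rw [Bool.and_eq_true, Nat.beq_eq] at h
  have key : ∀ d : ℕ, (q : ZMod r) ^ d = 1 ↔ q ^ d % r = 1 % r := by
    intro d
    rw [← Nat.cast_pow, ← Nat.cast_one, ZMod.natCast_eq_natCast_iff]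
    exact Iff.rfl
  rw [orderOf_eq_iff (by omega)]
  refine ⟨(key e).2 h.1, fun d hd hd0 h1 => ?_⟩
  have h2 := List.all_eq_true.1 h.2 d (List.mem_range.2 hd)
  rw [Bool.or_eq_true, Nat.beq_eq, Bool.not_eq_true', ← Bool.not_eq_true, Nat.beq_eq] at h2
  rcases h2 with h2 | h2
  · omega
  · exact h2 ((key d).1 h1)

/-- the classes `e ∈ {3, 6}` : `PSp₆`, `PΩ₇`, `PΩ⁺₈` -/
theorem fam_three {L : Type*} [Group L] {q e n : ℕ} (h : Fam2 L q e n) (he : e = 3 ∨ e = 6) :
    ∃ k m : ℕ, k ≤ 4 ∧ 3 ≤ m ∧ NDv L q k m := by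
  cases h with
  | sp F n e hn hn2 iso h =>
    obtain ⟨i⟩ := iso
    have h3 : n = 3 := by
      rcases h with ⟨h, -⟩ | ⟨h, ⟨t, ht⟩, -⟩ <;> omega
    exact ⟨n, n, by omega, by omega, (nd_psp hn (fun h => by omega)).congr i⟩
  | odd F n e hn hodd iso h =>
    obtain ⟨i⟩ := iso
    have h3 : n = 3 := by
      rcases h with ⟨h, -⟩ | ⟨h, ⟨t, ht⟩, -⟩ <;> omega
    exact ⟨n, n, by omega, by omega, (nd_odd hn hodd).congr i⟩
  | plus F n e hn iso h n' hn' =>
    obtain ⟨i⟩ := iso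
    have h4 : n = 4 := by
      rcases h with ⟨h, -⟩ | ⟨h, ⟨t, ht⟩, -⟩ | ⟨h, ⟨t, ht⟩, -⟩ <;> omega
    exact ⟨n, n - 1, by omega, by omega, (nd_plus hn).congr i⟩
  | minus F n e hn a b hab iso h =>
    exfalso
    rcases h with ⟨h, -⟩ | ⟨h, ⟨t, ht⟩, -⟩ <;> omega

theorem eta3 : IsEta 3 3 := Or.inl ⟨by decide, rfl⟩
theorem eta4 : IsEta 4 2 := Or.inr ⟨by decide, rfl⟩
theorem eta5 : IsEta 5 5 := Or.inl ⟨by decide, rfl⟩
theorem eta6 : IsEta 6 3 := Or.inr ⟨by decide, rfl⟩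
theorem eta8 : IsEta 8 4 := Or.inr ⟨by decide, rfl⟩
theorem eta10 : IsEta 10 5 := Or.inr ⟨by decide, rfl⟩

theorem coc_five {L : Type*} [Group L] {k m : ℕ} (hk : k ≤ 4) (hm : 3 ≤ m) (h : NDv L 5 k m) : Coc3 L 31 13 7 := by
  have p31 : Nat.Prime 31 := by norm_num
  have p13 : Nat.Prime 13 := by norm_num
  have p7 : Nat.Prime 7 := by norm_num
  have o31 : orderOf ((5 : ℕ) : ZMod 31) = 3 := ord_of_chk (by norm_num) (by decide +kernel)
  have o13 : orderOf ((5 : ℕ) : ZMod 13) = 4 := ord_of_chk (by norm_num) (by decide +kernel)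
  have o7 : orderOf ((5 : ℕ) : ZMod 7) = 6 := ord_of_chk (by norm_num) (by decide +kernel)
  refine ⟨h.2 _ _ _ p31 o31 (by norm_num) eta3 (by omega), h.2 _ _ _ p13 o13 (by norm_num) eta4 (by omega),
    h.2 _ _ _ p7 o7 (by norm_num) eta6 (by omega), ?_, ?_, ?_⟩
  · exact h.1 31 13 3 4 3 2 p31 p13 o31 o13 (by norm_num) (by norm_num) (by norm_num) eta3 eta4 (by norm_num)
      (by norm_num) (by omega) (no_rat_of (by decide +kernel) (by norm_num))
  · exact h.1 31 7 3 6 3 3 p31 p7 o31 o7 (by norm_num) (by norm_num) (by norm_num) eta3 eta6 (by norm_num)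
      (by norm_num) (by omega) (no_rat_of (by decide +kernel) (by norm_num))
  · intro g hg
    refine h.1 7 13 6 4 3 2 p7 p13 o7 o13 (by norm_num) (by norm_num) (by norm_num) eta6 eta4 (by norm_num)
      (by norm_num) (by omega) (no_rat_of (by decide +kernel) (by norm_num)) g (by rw [hg])

theorem coc_eleven {L : Type*} [Group L] {k m : ℕ} (hk : k ≤ 4) (hm : 3 ≤ m) (h : NDv L 11 k m) : Coc3 L 37 61 7 := by
  have p31 : Nat.Prime 37 := by norm_num
  have p13 : Nat.Prime 61 := by norm_num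
  have p7 : Nat.Prime 7 := by norm_num
  have o31 : orderOf ((11 : ℕ) : ZMod 37) = 6 := ord_of_chk (by norm_num) (by decide +kernel)
  have o13 : orderOf ((11 : ℕ) : ZMod 61) = 4 := ord_of_chk (by norm_num) (by decide +kernel)
  have o7 : orderOf ((11 : ℕ) : ZMod 7) = 3 := ord_of_chk (by norm_num) (by decide +kernel)
  refine ⟨h.2 _ _ _ p31 o31 (by norm_num) eta6 (by omega), h.2 _ _ _ p13 o13 (by norm_num) eta4 (by omega),
    h.2 _ _ _ p7 o7 (by norm_num) eta3 (by omega), ?_, ?_, ?_⟩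
  · exact h.1 37 61 6 4 3 2 p31 p13 o31 o13 (by norm_num) (by norm_num) (by norm_num) eta6 eta4 (by norm_num)
      (by norm_num) (by omega) (no_rat_of (by decide +kernel) (by norm_num))
  · exact h.1 37 7 6 3 3 3 p31 p7 o31 o7 (by norm_num) (by norm_num) (by norm_num) eta6 eta3 (by norm_num)
      (by norm_num) (by omega) (no_rat_of (by decide +kernel) (by norm_num))
  · intro g hg
    refine h.1 7 61 3 4 3 2 p7 p13 o7 o13 (by norm_num) (by norm_num) (by norm_num) eta3 eta4 (by norm_num)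
      (by norm_num) (by omega) (no_rat_of (by decide +kernel) (by norm_num)) g (by rw [hg])

/-- `7` is not adjacent to `5` for `q = 3` -/
theorem tits_q_three {L : Type*} [Group L] {k m : ℕ} (hk : k ≤ 4) (hm : 3 ≤ m) (h : NDv L 3 k m) :
    7 ∣ Nat.card L ∧ ∀ g : L, orderOf g ≠ 7 * 5 := by
  have p5 : Nat.Prime 5 := by norm_num
  have p7 : Nat.Prime 7 := by norm_num
  have o5 : orderOf ((3 : ℕ) : ZMod 5) = 4 := ord_of_chk (by norm_num) (by decide +kernel)
  have o7 : orderOf ((3 : ℕ) : ZMod 7) = 6 := ord_of_chk (by norm_num) (by decide +kernel)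
  refine ⟨h.2 _ _ _ p7 o7 (by norm_num) eta6 (by omega), ?_⟩
  exact h.1 7 5 6 4 3 2 p7 p5 o7 o5 (by norm_num) (by norm_num) (by norm_num) eta6 eta4 (by norm_num)
    (by norm_num) (by omega) (no_rat_of (by decide +kernel) (by norm_num))

theorem coc_two {L : Type*} [Group L] {k m : ℕ} (hk : k ≤ 6) (hm : 5 ≤ m) (h : NDv L 2 k m) : Coc3 L 31 17 11 := by
  have p31 : Nat.Prime 31 := by norm_num
  have p17 : Nat.Prime 17 := by norm_num
  have p11 : Nat.Prime 11 := by norm_num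
  have o31 : orderOf ((2 : ℕ) : ZMod 31) = 5 := ord_of_chk (by norm_num) (by decide +kernel)
  have o17 : orderOf ((2 : ℕ) : ZMod 17) = 8 := ord_of_chk (by norm_num) (by decide +kernel)
  have o11 : orderOf ((2 : ℕ) : ZMod 11) = 10 := ord_of_chk (by norm_num) (by decide +kernel)
  refine ⟨h.2 _ _ _ p31 o31 (by norm_num) eta5 (by omega), h.2 _ _ _ p17 o17 (by norm_num) eta8 (by omega),
    h.2 _ _ _ p11 o11 (by norm_num) eta10 (by omega), ?_, ?_, ?_⟩
  · exact h.1 31 17 5 8 5 4 p31 p17 o31 o17 (by norm_num) (by norm_num) (by norm_num) eta5 eta8 (by norm_num)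
      (by norm_num) (by omega) (no_rat_of (by decide +kernel) (by norm_num))
  · exact h.1 31 11 5 10 5 5 p31 p11 o31 o11 (by norm_num) (by norm_num) (by norm_num) eta5 eta10 (by norm_num)
      (by norm_num) (by omega) (no_rat_of (by decide +kernel) (by norm_num))
  · intro g hg
    refine h.1 11 17 10 8 5 4 p11 p17 o11 o17 (by norm_num) (by norm_num) (by norm_num) eta10 eta8 (by norm_num)
      (by norm_num) (by omega) (no_rat_of (by decide +kernel) (by norm_num)) g (by rw [hg])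

/-- the class `e = 12`, `q = 2` -/
theorem fam_twelve {L : Type*} [Group L] {q e n : ℕ} (h : Fam2 L q e n) (hq : q = 2) (he : e = 12) :
    (∃ k m : ℕ, k ≤ 6 ∧ 5 ≤ m ∧ NDv L q k m) ∨ ((∃ x : L, orderOf x = 43) ∧ ∀ x : L, orderOf x ≠ 2 * 43) := by
  have p43 : Nat.Prime 43 := by norm_num
  have o43 : orderOf ((2 : ℕ) : ZMod 43) = 14 := ord_of_chk (by norm_num) (by decide +kernel)
  cases h with
  | sp F n e hn hn2 iso h =>
    obtain ⟨i⟩ := iso
    have h6 : n = 6 := by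
      rcases h with ⟨h, -⟩ | ⟨h, ⟨t, ht⟩, -⟩ <;> omega
    exact Or.inl ⟨n, n, by omega, by omega, (nd_psp hn (fun h => by omega)).congr i⟩
  | odd F n e hn hodd iso h =>
    exfalso
    rw [Nat.card_eq_fintype_card] at hq
    rw [hq] at hodd
    revert hodd
    decide
  | plus F n e hn iso h n' hn' =>
    exfalso
    rw [hq, Nat.odd_iff, Nat.even_iff] at h
    omega
  | minus F n e hn a b hab iso h =>
    obtain ⟨i⟩ := iso
    have h67 : n = 6 ∨ n = 7 := by
      rcases h with ⟨h, -⟩ | ⟨h, ⟨t, ht⟩, -⟩ <;> omega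
    rcases h67 with rfl | rfl
    · exact Or.inl ⟨_, _, le_rfl, le_rfl, (nd_minus hn a b hab).congr i⟩
    · right
      have hF := (minus_f2 (e := 14) hn a b hab (Or.inl ⟨rfl, Or.inl (by omega)⟩)).congr i
      rw [hq] at hF
      refine ⟨?_, hF.f1 43 p43 o43⟩
      obtain ⟨x, hx⟩ := hF.f2 43 1 p43 o43 (by norm_num)
      exact ⟨x, by rw [hx, pow_one]⟩

/-- the class `e = 8`, `q = 2` -/
theorem fam_eight {L : Type*} [Group L] {q e n : ℕ} (h : Fam2 L q e n) (hq : q = 2) (he : e = 8) :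
    (∃ (F : Type) (_ : Field F) (_ : Fintype F), Fintype.card F = 2 ∧
      ∀ m : ℕ, (∃ x : L, orderOf x = m) → ∃ g : PSp 4 F, orderOf g = m) ∨
    ((∃ x : L, orderOf x = 11) ∧ ∀ x : L, orderOf x ≠ 2 * 11) := by
  have p11 : Nat.Prime 11 := by norm_num
  have o11 : orderOf ((2 : ℕ) : ZMod 11) = 10 := ord_of_chk (by norm_num) (by decide +kernel)
  cases h with
  | sp F n e hn hn2 iso h =>
    obtain ⟨i⟩ := iso
    have h6 : n = 4 := by
      rcases h with ⟨h, -⟩ | ⟨h, ⟨t, ht⟩, -⟩ <;> omega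
    subst h6
    refine Or.inl ⟨F, inferInstance, inferInstance, by rwa [Nat.card_eq_fintype_card] at hq, ?_⟩
    rintro m ⟨x, hx⟩
    exact ⟨i x, by rw [MulEquiv.orderOf_eq, hx]⟩
  | odd F n e hn hodd iso h =>
    exfalso
    rw [Nat.card_eq_fintype_card] at hq
    rw [hq] at hodd
    revert hodd
    decide
  | plus F n e hn iso h n' hn' =>
    exfalso
    rw [hq, Nat.odd_iff, Nat.even_iff] at h
    omega
  | minus F n e hn a b hab iso h =>
    obtain ⟨i⟩ := iso
    have h67 : n = 4 ∨ n = 5 := by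
      rcases h with ⟨h, -⟩ | ⟨h, ⟨t, ht⟩, -⟩ <;> omega
    rcases h67 with rfl | rfl
    · rw [Nat.card_eq_fintype_card] at hq
      refine Or.inl ⟨F, inferInstance, inferInstance, hq, ?_⟩
      have hcard : Fintype.card ((Fin (4 - 1) ⊕ Fin (4 - 1)) ⊕ Fin 2) = 2 * 4 := by simp
      have hD : Lift.Data (quadMinus (4 - 1) F a b) := data_of _ (quadMinus_nondegenerate hab) (by rw [hcard]; omega)
        (quadMinus_isotropic (by omega) a b) (Or.inr (by rw [hcard]; omega))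
      rw [← coe_quadMinus] at i
      rintro m ⟨x, hx⟩
      exact to_sp (two_eq_zero hq) hD (n := 4) (by norm_num) hcard (m := m) ⟨i x, by rw [MulEquiv.orderOf_eq, hx]⟩
    · right
      have hF := (minus_f2 (e := 10) hn a b hab (Or.inl ⟨rfl, Or.inl (by omega)⟩)).congr i
      rw [hq] at hF
      refine ⟨?_, hF.f1 11 p11 o11⟩
      obtain ⟨x, hx⟩ := hF.f2 11 1 p11 o11 (by norm_num)
      exact ⟨x, by rw [hx, pow_one]⟩

/-- the class `e = 3`, `q = 4` -/
theorem fam_four {L : Type*} [Group L] {q e n : ℕ} (h : Fam2 L q e n) (hq : q = 4) (he : e = 3) :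
    (∃ x : L, orderOf x = 13) ∧ ∀ x : L, orderOf x ≠ 2 * 13 := by
  have p13 : Nat.Prime 13 := by norm_num
  have o13 : orderOf ((4 : ℕ) : ZMod 13) = 6 := ord_of_chk (by norm_num) (by decide +kernel)
  have key : ∀ m : ℕ, F2 L 4 6 m → (∃ x : L, orderOf x = 13) ∧ ∀ x : L, orderOf x ≠ 2 * 13 := by
    intro m hF
    refine ⟨?_, hF.f1 13 p13 o13⟩
    obtain ⟨x, hx⟩ := hF.f2 13 1 p13 o13 (by norm_num)
    exact ⟨x, by rw [hx, pow_one]⟩
  cases h with
  | sp F n e hn hn2 iso h =>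
    obtain ⟨i⟩ := iso
    have h3 : n = 3 := by
      rcases h with ⟨h, -⟩ | ⟨h, ⟨t, ht⟩, -⟩ <;> omega
    subst h3
    have hF := (sp_f2 (F := F) (n := 3) (e := 6) hn (by omega) (by omega) (Or.inl ⟨rfl, Or.inr (by omega)⟩)).congr i
    rw [hq] at hF
    exact key _ hF
  | odd F n e hn hodd iso h =>
    exfalso
    rw [Nat.card_eq_fintype_card] at hq
    rw [hq] at hodd
    revert hodd
    decide
  | plus F n e hn iso h n' hn' =>
    obtain ⟨i⟩ := iso
    have h4 : n = 4 := by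
      rcases h with ⟨h, -⟩ | ⟨h, ⟨t, ht⟩, -⟩ | ⟨h, ⟨t, ht⟩, -⟩ <;> omega
    subst h4
    have hF := (plus_f2 (F := F) (n := 4) (e := 6) hn (Or.inl ⟨rfl, by omega⟩) (n' := 4) (Or.inl rfl)).congr i
    rw [hq] at hF
    exact key _ hF
  | minus F n e hn a b hab iso h =>
    exfalso
    rcases h with ⟨h, -⟩ | ⟨h, -⟩ <;> omega

/-- the class `e = 4`, `q = 5` -/
theorem fam_psp_two {L : Type*} [Group L] {q e n : ℕ} (h : Fam2 L q e n) (he : e = 4) :
    ∃ (F : Type) (_ : Field F) (_ : Fintype F), Fintype.card F = q ∧ Nonempty (L ≃* PSp 2 F) := by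
  cases h with
  | sp F n e hn hn2 iso h =>
    have h6 : n = 2 := by
      rcases h with ⟨h, -⟩ | ⟨h, ⟨t, ht⟩, -⟩ <;> omega
    subst h6
    exact ⟨F, inferInstance, inferInstance, by rw [Nat.card_eq_fintype_card], iso⟩
  | odd F n e hn hodd iso h =>
    exfalso
    rcases h with ⟨h, -⟩ | ⟨h, ⟨t, ht⟩, -⟩ <;> omega
  | plus F n e hn iso h n' hn' =>
    exfalso
    rcases h with ⟨h, -⟩ | ⟨h, ⟨t, ht⟩, -⟩ | ⟨h, ⟨t, ht⟩, -⟩ <;> omega
  | minus F n e hn a b hab iso h =>
    exfalso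
    rcases h with ⟨h, -⟩ | ⟨h, -⟩ <;> omega

end Cfsg.Agent.H390
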