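import Mathlib
import Cfsg.Agent.H390.F2All
import Cfsg.Agent.H390.AltAux
import Cfsg.Agent.H390.AltRed
import Cfsg.Agent.H403.Reduce
import Cfsg.Agent.ClassicalGeometry.PSL2Basic

/-!
# Sporadic and Tits composition factors: the reduction (helper390)
-/

set_option autoImplicit false
set_option maxRecDepth 100000

namespace Cfsg.Agent.H390.Sp

open Cfsg Cfsg.Agent.OrdDiv Cfsg.Agent.H403 Cfsg.Agent.H390

/-- integral part of the cubic root of twice the order -/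
def cb : Grp → ℕ
  | .tits => 330
  | .m11 => 25
  | .m12 => 57
  | .m22 => 96
  | .m23 => 273
  | .m24 => 788
  | .j1 => 70
  | .j2 => 106
  | .j3 => 464
  | .j4 => 5577965
  | .co1 => 2025957
  | .co2 => 43901
  | .co3 => 9971
  | .mcl => 1215
  | .hs => 445
  | .suz => 9643
  | .he => 2005
  | .ru => 6633
  | .on => 9731
  | .ly => 469557
  | .fi22 => 50543
  | .fi23 => 2014801
  | .fi24 => 135909026
  | .hn => 81736
  | .th => 566177
  | .b => 202547114678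
  | .m => 1173501297218634645
  | _ => 0

theorem cb_table : ∀ x ∈ sporFac, cb x.1 * (cb x.1 ^ 2 - 1) < x.2.1 * 2 ∧
    x.2.1 * 2 < (cb x.1 + 1) * ((cb x.1 + 1) ^ 2 - 1) ∧ x.2.1 ≠ 2520 := by decide +kernel

theorem mono_cube {a b : ℕ} (h : a ≤ b) : a * (a ^ 2 - 1) ≤ b * (b ^ 2 - 1) :=
  Nat.mul_le_mul h (Nat.sub_le_sub_right (Nat.pow_le_pow_left h 2) 1)

theorem not_psl2 {S : Type*} [Group S] {x : Grp × ℕ × List (ℕ × ℕ)} (hx : x ∈ sporFac) (hc : Nat.card S = x.2.1)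
    (h : ∃ (F : Type) (_ : Field F) (_ : Fintype F), Odd (Fintype.card F) ∧
      Nonempty (S ≃* Matrix.ProjectiveSpecialLinearGroup (Fin 2) F)) : False := by
  obtain ⟨F, _, _, hodd, ⟨i⟩⟩ := h
  have h1 := Cfsg.Agent.ClassicalGeometry.PSL2Basic.card_PSL2_odd (F := F) hodd
  rw [← Nat.card_congr i.toEquiv, hc] at h1
  obtain ⟨h2, h3, -⟩ := cb_table x hx
  rcases Nat.lt_or_ge (cb x.1) (Fintype.card F) with h4 | h4
  · have := mono_cube (show cb x.1 + 1 ≤ Fintype.card F from h4)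
    omega
  · have := mono_cube h4
    omega

theorem not_alt7 {S : Type*} [Group S] {x : Grp × ℕ × List (ℕ × ℕ)} (hx : x ∈ sporFac) (hc : Nat.card S = x.2.1)
    (h : Nonempty (S ≃* alternatingGroup (Fin 7))) : False := by
  obtain ⟨i⟩ := h
  have h1 := card_alt 7 (by norm_num)
  rw [← Nat.card_congr i.toEquiv, hc] at h1
  have h2 := (cb_table x hx).2.2
  have h3 : Nat.factorial 7 = 5040 := by decide
  omega

theorem fac_prime {x : Grp × ℕ × List (ℕ × ℕ)} (hx : x ∈ sporFac) {y : ℕ × ℕ} (hy : y ∈ x.2.2) : y.1.Prime := by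
  have h1 := List.all_eq_true.1 fac_valid x hx
  unfold valid at h1
  rw [Bool.and_eq_true] at h1
  have h2 := List.all_eq_true.1 h1.1 y hy
  rw [Bool.and_eq_true] at h2
  exact prime_of h2.1

theorem fac_dvd : ∀ x ∈ sporFac, ∀ y ∈ x.2.2, y.1 ∣ x.2.1 := by decide +kernel

section

variable {L : Type*} [Group L] [Finite L] {G : Type*} [Group G] [Finite G]
  (h : Set.range (orderOf : G → ℕ) = Set.range (orderOf : L → ℕ)) {q e n : ℕ} (hf : Fam2 L q e n)

include h in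
theorem ne_of {m : ℕ} (hno : ∀ x : L, orderOf x ≠ m) (g : G) : orderOf g ≠ m := by
  intro hg
  obtain ⟨x, hx⟩ := (exists_iff_of_range h m).1 ⟨g, hg⟩
  exact hno x hx

/-- an element of the section -/
theorem exists_of_quot {H : Subgroup G} {N : Subgroup ↥H} [N.Normal] {m : ℕ} (hx : ∃ x : ↥H ⧸ N, orderOf x = m) :
    ∃ g : G, orderOf g = m :=
  exists_of_section (QuotientGroup.mk' N) (QuotientGroup.mk'_surjective N) hx

theorem card_quot_dvd (H : Subgroup G) (N : Subgroup ↥H) [N.Normal] : Nat.card (↥H ⧸ N) ∣ Nat.card G :=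
  (Subgroup.card_quotient_dvd_card N).trans (Subgroup.card_subgroup_dvd_card H)

include h hf

theorem exists_far : ∃ p : ℕ, p.Prime ∧ p ≠ 2 ∧ p ∣ Nat.card G ∧ ¬ ∃ x : G, orderOf x = 2 * p := by
  have hrel := hf.rel
  have h3 := rel_three hrel
  have hq : 2 ≤ q := hf.primePow.two_le
  have F := hf.f2
  obtain ⟨r, hr, hre⟩ := Cfsg.Agent.Lib.Zsigmondy.exists_prime_orderOf (a := q) hq (by omega : 2 ≤ e) (by omega)
    (rel_six hrel)
  obtain ⟨hr2, -, -, -, -⟩ := prim_cond hr hre h3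
  refine ⟨r, hr, hr2, ?_, ?_⟩
  · obtain ⟨x, hx⟩ := F.f2 r 1 hr hre (by rw [pow_one]; exact dvd_of_orderOf (by omega) hre dvd_rfl)
    obtain ⟨g, hg⟩ := (exists_iff_of_range h _).2 ⟨x, hx⟩
    rw [pow_one] at hg
    rw [← hg]
    exact orderOf_dvd_natCard g
  · rintro ⟨g, hg⟩
    exact ne_of h (F.f1 r hr hre) g hg

/-- the structure of the group -/
theorem exists_str {H : Subgroup G} (hH : H.IsSubnormal) {N : Subgroup ↥H} [N.Normal] (hs : IsSimpleGroup (↥H ⧸ N))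
    (hna : ¬ IsMulCommutative (↥H ⧸ N)) {x : Grp × ℕ × List (ℕ × ℕ)} (hx : x ∈ sporFac)
    (hc : Nat.card (↥H ⧸ N) = x.2.1) : Struct G (↥H ⧸ N) :=
  exists_struct (exists_far h hf) H hH N hs hna (not_alt7 hx hc) (not_psl2 hx hc)

/-- the hypotheses of the numerical theorem -/
theorem hyp_of {H : Subgroup G} (hH : H.IsSubnormal) {N : Subgroup ↥H} [N.Normal] (hs : IsSimpleGroup (↥H ⧸ N))
    (hna : ¬ IsMulCommutative (↥H ⧸ N)) {x : Grp × ℕ × List (ℕ × ℕ)} (hx : x ∈ sporFac) (hreal : Real x.1 (↥H ⧸ N))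
    (hc : Nat.card (↥H ⧸ N) = x.2.1) : Hyp x q e n := by
  have hrel := hf.rel
  have h3 := rel_three hrel
  have hq : 2 ≤ q := hf.primePow.two_le
  have F := hf.f2
  obtain ⟨K, hK, S, hS, hKs, hSc, ⟨i⟩, hstr⟩ := exists_str h hf hH hs hna hx hc
  refine ⟨hq, hrel, ?_, ?_⟩
  · intro r a hr hre ha
    rcases Nat.eq_zero_or_pos a with h0 | hpos
    · exact Or.inl h0
    right
    obtain ⟨hr2, -, -, -, -⟩ := prim_cond hr hre h3
    obtain ⟨g, hg⟩ := (exists_iff_of_range h _).2 (F.f2 r a hr hre ha)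
    have h1 : r ^ a ∣ Nat.card G := by
      rw [← hg]
      exact orderOf_dvd_natCard g
    have h2 : r ∣ Nat.card G := (dvd_pow_self r hpos.ne').trans h1
    have h4 := ne_of h (F.f1 r hr hre)
    have h5 := hstr r hr hr2 h2 (by rintro ⟨g, hg⟩; exact h4 g hg) a h1
    have h6 : r ∈ isoR x.1 := by
      refine mem_isoR hx hreal hc hr hr2 ((dvd_pow_self r hpos.ne').trans h5) fun y hy => ?_
      obtain ⟨g, hg⟩ := exists_of_quot ⟨y, hy⟩
      exact h4 g hg
    refine ⟨h6, ?_⟩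
    by_contra hcon
    rw [hc] at h5
    exact not_sq_dvd hx h6 ((pow_dvd_pow r (by omega)).trans h5)
  · intro y hy
    have hp := fac_prime hx hy
    have h1 : y.1 ∣ Nat.card G := (hc ▸ fac_dvd x hx y hy).trans (card_quot_dvd H N)
    exact F.f3 y.1 hp (dvd_card_of_range' h.symm hp h1)
where
  dvd_card_of_range' {G L : Type _} [Group G] [Group L] [Finite G] [Finite L]
    (h : Set.range (orderOf : G → ℕ) = Set.range (orderOf : L → ℕ)) {r : ℕ} (hr : r.Prime) (hrL : r ∣ Nat.card L) :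
    r ∣ Nat.card G := by
    have := Fact.mk hr
    obtain ⟨x, hx⟩ := exists_prime_orderOf_dvd_card' r hrL
    obtain ⟨g, hg⟩ := (exists_iff_of_range h r).2 ⟨x, hx⟩
    rw [← hg]
    exact orderOf_dvd_natCard g

/-- **The reduction.** -/
theorem mem_surv {H : Subgroup G} (hH : H.IsSubnormal) {N : Subgroup ↥H} [N.Normal] (hs : IsSimpleGroup (↥H ⧸ N))
    (hna : ¬ IsMulCommutative (↥H ⧸ N)) {x : Grp × ℕ × List (ℕ × ℕ)} (hx : x ∈ sporFac) (hreal : Real x.1 (↥H ⧸ N))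
    (hc : Nat.card (↥H ⧸ N) = x.2.1) : (x.1, e, q) ∈ surv ∧ q ≠ 87 := by
  refine ⟨num hx (hyp_of h hf hH hs hna hx hreal hc), ?_⟩
  rintro rfl
  obtain ⟨p, k, hp, hk, hpk⟩ := hf.primePow
  have hp' := hp.nat_prime
  have h3 : (3 : ℕ) ∣ p ^ k := by rw [hpk]; norm_num
  have h29 : (29 : ℕ) ∣ p ^ k := by rw [hpk]; norm_num
  have h4 := (Nat.prime_dvd_prime_iff_eq Nat.prime_three hp').1 (Nat.prime_three.dvd_of_dvd_pow h3)
  have h5 := (Nat.prime_dvd_prime_iff_eq (by norm_num) hp').1 ((by norm_num : Nat.Prime 29).dvd_of_dvd_pow h29)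
  omega

end

end Cfsg.Agent.H390.Sp
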