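import Mathlib
import Cfsg.Agent.H390.SpRed
import Cfsg.Agent.H390.SpCoc
import Cfsg.Agent.H390.Chief
import Cfsg.Agent.H403.SporElim
import Cfsg.Agent.H20.FrobTitsInst

/-!
# Sporadic and Tits composition factors: elimination (helper390)
-/

set_option autoImplicit false
set_option linter.unusedSectionVars false

namespace Cfsg.Agent.H390.Sp

open Cfsg Cfsg.Agent.OrdDiv Cfsg.Agent.H403 Cfsg.Agent.H390 Subgroup

theorem not_dvd_of_oddInn {X : Type*} [Group X] [Finite X] (hO : OddInn X) {r : ℕ} (hr : r.Prime) (hr2 : r ≠ 2) :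
    ¬ r ∣ (MulAut.conj : X →* MulAut X).range.index := by
  intro hd
  have := Fact.mk hr
  have hn : (MulAut.conj : X →* MulAut X).range.Normal := by
    constructor
    rintro _ ⟨x, rfl⟩ φ
    refine ⟨φ x, ?_⟩
    ext y
    simp [MulAut.conj_apply]
  set R := (MulAut.conj : X →* MulAut X).range with hR
  have h1 : r ∣ Nat.card (MulAut X ⧸ R) := hd
  obtain ⟨z, hz⟩ := exists_prime_orderOf_dvd_card' r h1
  obtain ⟨φ, rfl⟩ := QuotientGroup.mk'_surjective R z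
  have hpos : orderOf φ ≠ 0 := (orderOf_pos φ).ne'
  obtain ⟨a, b, hb, hab⟩ := Nat.exists_eq_pow_mul_and_not_dvd hpos r hr.one_lt.ne'
  have h2 : orderOf (φ ^ b) = r ^ a := by
    have hb0 : b ≠ 0 := by
      rintro rfl
      exact hb (dvd_zero r)
    rw [orderOf_pow' _ hb0, hab, Nat.gcd_eq_right (Dvd.intro_left _ rfl), Nat.mul_div_cancel _ (Nat.pos_of_ne_zero hb0)]
  obtain ⟨k, hk⟩ := hO (φ ^ b) (by rw [h2]; exact (hr.odd_of_ne_two hr2).pow)
  have h3 : (QuotientGroup.mk' R) (φ ^ b) = 1 := by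
    rw [QuotientGroup.mk'_apply, QuotientGroup.eq_one_iff]
    exact ⟨k, hk.symm⟩
  rw [map_pow] at h3
  have h4 := orderOf_dvd_of_pow_eq_one h3
  rw [hz] at h4
  exact hb h4

section

variable {G : Type*} [Group G] [Finite G] {X : Type*} [Group X]

/-- three pairwise nonadjacent primes, two of them not dividing `|X|` -/
theorem elim_coc (hst : Struct G X) (hO : OddInn X) {r s t : ℕ} (hr : r.Prime) (hs : s.Prime) (ht : t.Prime)
    (hr2 : r ≠ 2) (hs2 : s ≠ 2) (hrs : r ≠ s) (hrt : r ≠ t) (hst' : s ≠ t) (hC : Coc3 G r s t)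
    (hrX : ¬ r ∣ Nat.card X) (hsX : ¬ s ∣ Nat.card X) : False := by
  obtain ⟨K, hK, S, hS, hKs, hSc, ⟨f⟩, -⟩ := hst
  have hOS : OddInn ↥S := hO.congr f.symm
  have hcard : Nat.card ↥S = Nat.card X := Nat.card_congr f.toEquiv
  have hrK := dvd_K K S hSc hOS hr hr2 hC.dr (by rwa [hcard])
  have hsK := dvd_K K S hSc hOS hs hs2 hC.ds (by rwa [hcard])
  exact Cfsg.Agent.H395.Coclique.coclique hr hs ht hrs hrt hst' (by rintro ⟨g, hg⟩; exact hC.rs g hg)
    (by rintro ⟨g, hg⟩; exact hC.rt g hg) (by rintro ⟨g, hg⟩; exact hC.st g hg) K hKs hrK hsK hC.dt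

/-- a prime not adjacent to `2` divides `|X|` -/
theorem elim_far (hst : Struct G X) {r : ℕ} (hr : r.Prime) (hr2 : r ≠ 2) (hrG : ∃ g : G, orderOf g = r)
    (hno : ∀ g : G, orderOf g ≠ 2 * r) (hrX : ¬ r ∣ Nat.card X) : False := by
  obtain ⟨K, hK, S, hS, hKs, hSc, ⟨f⟩, hd⟩ := hst
  obtain ⟨g, hg⟩ := hrG
  have h1 : r ∣ Nat.card G := by rw [← hg]; exact orderOf_dvd_natCard g
  have h2 := hd r hr hr2 h1 (by rintro ⟨g, hg⟩; exact hno g hg) 1 (by rwa [pow_one])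
  rw [pow_one] at h2
  exact hrX h2

end

theorem Coc3.transfer {L G : Type*} [Group L] [Group G] [Finite L] [Finite G]
    (h : Set.range (orderOf : G → ℕ) = Set.range (orderOf : L → ℕ)) {r s t : ℕ} (hr : r.Prime) (hs : s.Prime)
    (ht : t.Prime) (hC : Coc3 L r s t) : Coc3 G r s t := by
  have hd : ∀ p : ℕ, p.Prime → p ∣ Nat.card L → p ∣ Nat.card G := by
    intro p hp hpL
    have := Fact.mk hp
    obtain ⟨x, hx⟩ := exists_prime_orderOf_dvd_card' p hpL
    obtain ⟨g, hg⟩ := (exists_iff_of_range h p).2 ⟨x, hx⟩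
    rw [← hg]
    exact orderOf_dvd_natCard g
  exact ⟨hd r hr hC.dr, hd s hs hC.ds, hd t ht hC.dt, ne_of h hC.rs, ne_of h hC.rt, ne_of h hC.st⟩

/-- the Tits group has a noncyclic subgroup of order `25` -/
theorem tits_five {X : Type*} [Group X] (hX : Lie.IsoTits X) :
    ∃ E : Subgroup X, IsPGroup 5 E ∧ ¬ Chief.Cy 5 E := by
  obtain ⟨i⟩ := hX
  obtain ⟨P, hP, hP5⟩ := Cfsg.Agent.H20.FrobTitsInst.exists_P
  have hc : Nat.card ↥(P.map i.symm.toMonoidHom) = 5 ^ 2 := by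
    rw [show 5 ^ 2 = 25 by norm_num, ← hP]
    exact Nat.card_congr (P.equivMapOfInjective _ i.symm.injective).symm.toEquiv
  refine ⟨P.map i.symm.toMonoidHom, IsPGroup.of_card hc, ?_⟩
  rintro (⟨-, h⟩ | ⟨h, -⟩)
  · obtain ⟨g, hg⟩ := h.exists_generator
    have h1 := orderOf_eq_card_of_forall_mem_zpowers hg
    rw [hc] at h1
    have h2 : ∀ g : ↥(P.map i.symm.toMonoidHom), g ^ 5 = 1 := by
      rintro ⟨_, y, hy, rfl⟩
      apply Subtype.ext
      rw [Subgroup.coe_pow, Subgroup.coe_one, ← map_pow, hP5 y hy, map_one]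
    have h3 := orderOf_dvd_of_pow_eq_one (h2 g)
    rw [h1] at h3
    norm_num at h3
  · norm_num at h

/-- the Tits group: a prime not adjacent to `5` divides `|X|` -/
theorem elim_tits {G : Type*} [Group G] [Finite G] {H : Subgroup G} (hH : H.IsSubnormal) {N : Subgroup ↥H} [N.Normal]
    (hs : IsSimpleGroup (↥H ⧸ N)) (hna : ¬ IsMulCommutative (↥H ⧸ N)) (hX : Lie.IsoTits (↥H ⧸ N))
    (hO : OddInn (↥H ⧸ N)) {r : ℕ} (hr : r.Prime) (hr2 : r ≠ 2) (hr5 : r ≠ 5) (hrG : r ∣ Nat.card G)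
    (hno : ∀ g : G, orderOf g ≠ r * 5) (hrX : ¬ r ∣ Nat.card (↥H ⧸ N)) : False := by
  have h1 := (Chief.main hr (by norm_num : Nat.Prime 5) hr5 hH (QuotientGroup.mk' N) (QuotientGroup.mk'_surjective N)
    (fun hc => hna ⟨⟨fun a b => hc a b⟩⟩) hno (tits_five hX) (not_dvd_of_oddInn hO hr hr2)).2
  have h2 := Nat.factorization_eq_zero_of_not_dvd hrX
  have h3 := hr.factorization_pos_of_dvd (Nat.card_pos (α := G)).ne' hrG
  omega

end Cfsg.Agent.H390.Sp
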