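import Mathlib
import Cfsg.Agent.H390.SpKill
import Cfsg.Agent.H390.PspFive
import Cfsg.Agent.H390.HeTwentyEight
import Cfsg.Agent.H390.No34
import Cfsg.Agent.H403.TitsSixteen
import Cfsg.Agent.H403.SporMain
import Cfsg.Agent.H466.KnownOk

/-!
# No sporadic and Tits composition factors, `L` not `Sp₆(2)` or `Ω₈⁺(2)` (helper390)

* `no35`: S3535 without the two groups `Sp₆(2)`, `Ω₈⁺(2)` (the only ones which need S3407);
* see `No34.lean` for `not_sm_psp` etc.
-/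

set_option autoImplicit false
set_option maxRecDepth 100000

namespace Cfsg.Agent.H390.Sp

open Cfsg Cfsg.Agent.OrdDiv Cfsg.Agent.H403 Cfsg.Agent.H390

theorem card_surv : ∀ x ∈ sporFac,
    (x.1 = .tits → x.2.1 = 17971200) ∧ (x.1 = .j2 → x.2.1 = 604800) ∧ (x.1 = .j1 → x.2.1 = 175560) ∧
    (x.1 = .he → x.2.1 = 4030387200) ∧ (x.1 = .suz → x.2.1 = 448345497600) ∧
    (x.1 = .fi22 → x.2.1 = 64561751654400) := by decide +kernel

theorem mem_sur {x : Grp × ℕ × ℕ} (h : x ∈ surv) : x = (.tits, 4, 5) ∨ x = (.j2, 3, 2) ∨ x = (.tits, 3, 3) ∨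
    x = (.j2, 3, 4) ∨ x = (.j2, 6, 5) ∨ x = (.j1, 3, 11) ∨ x = (.he, 8, 2) ∨ x = (.suz, 12, 2) ∨
    x = (.fi22, 12, 2) ∨ x = (.tits, 12, 2) ∨ x = (.th, 3, 87) := by
  simpa [surv] using h

theorem spg_j1 {X : Type*} [Group X] (h : Spor.IsoJ1 X) : IsSporadicGroup X :=
  Or.inr (Or.inr (Or.inr (Or.inr (Or.inr (Or.inl h)))))

theorem spg_j2 {X : Type*} [Group X] (h : Spor.IsoJ2 X) : IsSporadicGroup X :=
  Or.inr (Or.inr (Or.inr (Or.inr (Or.inr (Or.inr (Or.inl h))))))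

theorem spg_suz {X : Type*} [Group X] (h : Spor.IsoSuz X) : IsSporadicGroup X :=
  Or.inr (Or.inr (Or.inr (Or.inr (Or.inr (Or.inr (Or.inr (Or.inr (Or.inr (Or.inr (Or.inr (Or.inr (Or.inr (Or.inr (Or.inl h))))))))))))))

theorem spg_fi22 {X : Type*} [Group X] (h : Spor.IsoFi22 X) : IsSporadicGroup X :=
  Or.inr (Or.inr (Or.inr (Or.inr (Or.inr (Or.inr (Or.inr (Or.inr (Or.inr (Or.inr (Or.inr (Or.inr (Or.inr (Or.inr (Or.inr (Or.inr (Or.inr (Or.inr (Or.inr (Or.inl h)))))))))))))))))))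

theorem sm_of_fam {L : Type*} [Group L] {q e n : ℕ} (h : Fam2 L q e n) (hq : q = 2) (he : e = 3) : Sm L := by
  cases h with
  | sp F n e hn hn2 iso h =>
    rw [Nat.card_eq_fintype_card] at hq h
    have h3 : n = 3 := by omega
    subst h3
    exact ⟨F, inferInstance, inferInstance, hq, Or.inl iso⟩
  | odd F n e hn hodd iso h =>
    exfalso
    rw [Nat.card_eq_fintype_card] at hq
    rw [hq] at hodd
    revert hodd
    decide
  | plus F n e hn iso h n' hn' =>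
    rw [Nat.card_eq_fintype_card] at hq h
    rw [Nat.odd_iff, Nat.even_iff] at h
    have h4 : n = 4 := by omega
    subst h4
    exact ⟨F, inferInstance, inferInstance, hq, Or.inr iso⟩
  | minus F n e hn a b hab iso h =>
    exfalso
    rw [Nat.odd_iff, Nat.even_iff] at h
    omega

section

variable {L : Type*} [Group L] [Finite L] {G : Type*} [Group G] [Finite G]
  (h : Set.range (orderOf : G → ℕ) = Set.range (orderOf : L → ℕ)) {q e n : ℕ} (hf : Fam2 L q e n)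

include h in
theorem exists_G {m : ℕ} (hx : ∃ x : L, orderOf x = m) : ∃ g : G, orderOf g = m :=
  (exists_iff_of_range h m).2 hx

include h in
theorem dvd_card_G {r : ℕ} (hr : r.Prime) (hrL : r ∣ Nat.card L) : r ∣ Nat.card G := by
  have := Fact.mk hr
  obtain ⟨x, hx⟩ := exists_prime_orderOf_dvd_card' r hrL
  obtain ⟨g, hg⟩ := exists_G h ⟨x, hx⟩
  rw [← hg]
  exact orderOf_dvd_natCard g

include h hf

/-- **All cases.** -/
theorem no_spor (hns : ¬ Sm L) {H : Subgroup G} (hH : H.IsSubnormal) {N : Subgroup ↥H} [N.Normal]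
    (hs : IsSimpleGroup (↥H ⧸ N)) (hna : ¬ IsMulCommutative (↥H ⧸ N)) {x : Grp × ℕ × List (ℕ × ℕ)} (hx : x ∈ sporFac)
    (hreal : Real x.1 (↥H ⧸ N)) (hc : Nat.card (↥H ⧸ N) = x.2.1) : False := by
  obtain ⟨hsv, h87⟩ := mem_surv h hf hH hs hna hx hreal hc
  have hst := exists_str h hf hH hs hna hx hc
  obtain ⟨c1, c2, c3, c4, c5, c6⟩ := card_surv x hx
  have spo : IsSporadicGroup (↥H ⧸ N) → OddInn (↥H ⧸ N) := fun h => H466.Split.oddInner_sporadic h
  have tit : Lie.IsoTits (↥H ⧸ N) → OddInn (↥H ⧸ N) := fun h => H466.Split.oddInner_tits hs hna h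
  have n31 : Nat.Prime 31 := by norm_num
  have n37 : Nat.Prime 37 := by norm_num
  have n61 : Nat.Prime 61 := by norm_num
  have n17 : Nat.Prime 17 := by norm_num
  have n13 : Nat.Prime 13 := by norm_num
  have n11 : Nat.Prime 11 := by norm_num
  have n43 : Nat.Prime 43 := by norm_num
  have n7 : Nat.Prime 7 := by norm_num
  have twelve : e = 12 → q = 2 → OddInn (↥H ⧸ N) → ¬ 43 ∣ Nat.card (↥H ⧸ N) → ¬ 31 ∣ Nat.card (↥H ⧸ N) →
      ¬ 17 ∣ Nat.card (↥H ⧸ N) → False := by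
    intro he hq hO d43 d31 d17
    rcases fam_twelve hf hq he with ⟨k, m, hk, hm, hnd⟩ | ⟨h43, hno⟩
    · rw [hq] at hnd
      exact elim_coc hst hO n31 n17 n11 (by norm_num) (by norm_num) (by norm_num) (by norm_num) (by norm_num)
        (Coc3.transfer h n31 n17 n11 (coc_two hk hm hnd)) d31 d17
    · exact elim_far hst n43 (by norm_num) (exists_G h h43) (ne_of h hno) d43
  rcases mem_sur hsv with h1 | h1 | h1 | h1 | h1 | h1 | h1 | h1 | h1 | h1 | h1 <;>
    rw [Prod.mk.injEq, Prod.mk.injEq] at h1 <;> obtain ⟨hg, he, hq⟩ := h1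
  · -- tits, 4, 5
    rw [hg] at hreal
    obtain ⟨F, _, _, hF, ⟨i⟩⟩ := fam_psp_two hf he
    obtain ⟨g, hg'⟩ := exists_of_X hst (by norm_num) (Tits.exists_sixteen hreal)
    obtain ⟨y, hy⟩ := (exists_iff_of_range h 16).1 ⟨g, hg'⟩
    exact SpEl.psp2_five (hF.trans hq) (i y) (by rw [MulEquiv.orderOf_eq, hy])
  · -- j2, 3, 2
    exact hns (sm_of_fam hf hq he)
  · -- tits, 3, 3
    have hX : Lie.IsoTits (↥H ⧸ N) := by rw [hg] at hreal; exact hreal
    obtain ⟨k, m, hk, hm, hnd⟩ := fam_three hf (Or.inl he)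
    rw [hq] at hnd
    obtain ⟨h7, hno⟩ := tits_q_three hk hm hnd
    exact elim_tits hH hs hna hX (tit hX) n7 (by norm_num) (by norm_num) (dvd_card_G h n7 h7) (ne_of h hno)
      (by rw [hc, c1 hg]; norm_num)
  · -- j2, 3, 4
    obtain ⟨h13, hno⟩ := fam_four hf hq he
    exact elim_far hst n13 (by norm_num) (exists_G h h13) (ne_of h hno) (by rw [hc, c2 hg]; norm_num)
  · -- j2, 6, 5
    have hX : Spor.IsoJ2 (↥H ⧸ N) := by rw [hg] at hreal; exact hreal
    obtain ⟨k, m, hk, hm, hnd⟩ := fam_three hf (Or.inr he)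
    rw [hq] at hnd
    exact elim_coc hst (spo (spg_j2 hX)) n31 n13 n7 (by norm_num) (by norm_num) (by norm_num)
      (by norm_num) (by norm_num) (Coc3.transfer h n31 n13 n7 (coc_five hk hm hnd)) (by rw [hc, c2 hg]; norm_num)
      (by rw [hc, c2 hg]; norm_num)
  · -- j1, 3, 11
    have hX : Spor.IsoJ1 (↥H ⧸ N) := by rw [hg] at hreal; exact hreal
    obtain ⟨k, m, hk, hm, hnd⟩ := fam_three hf (Or.inl he)
    rw [hq] at hnd
    exact elim_coc hst (spo (spg_j1 hX)) n37 n61 n7 (by norm_num) (by norm_num) (by norm_num)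
      (by norm_num) (by norm_num) (Coc3.transfer h n37 n61 n7 (coc_eleven hk hm hnd)) (by rw [hc, c3 hg]; norm_num)
      (by rw [hc, c3 hg]; norm_num)
  · -- he, 8, 2
    have hX : Spor.IsoHe (↥H ⧸ N) := by rw [hg] at hreal; exact hreal
    rcases fam_eight hf hq he with ⟨F, _, _, hF, hsp⟩ | ⟨h11, hno⟩
    · obtain ⟨g, hg'⟩ := exists_of_X hst (by norm_num) (HeT.iso28 hX)
      obtain ⟨y, hy⟩ := hsp 28 ((exists_iff_of_range h 28).1 ⟨g, hg'⟩)
      exact SpEl.sp8_28 hF y hy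
    · exact elim_far hst n11 (by norm_num) (exists_G h h11) (ne_of h hno) (by rw [hc, c4 hg]; norm_num)
  · -- suz, 12, 2
    have hX : Spor.IsoSuz (↥H ⧸ N) := by rw [hg] at hreal; exact hreal
    exact twelve he hq (spo (spg_suz hX)) (by rw [hc, c5 hg]; norm_num)
      (by rw [hc, c5 hg]; norm_num) (by rw [hc, c5 hg]; norm_num)
  · -- fi22, 12, 2
    have hX : Spor.IsoFi22 (↥H ⧸ N) := by rw [hg] at hreal; exact hreal
    exact twelve he hq (spo (spg_fi22 hX)) (by rw [hc, c6 hg]; norm_num)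
      (by rw [hc, c6 hg]; norm_num) (by rw [hc, c6 hg]; norm_num)
  · -- tits, 12, 2
    have hX : Lie.IsoTits (↥H ⧸ N) := by rw [hg] at hreal; exact hreal
    exact twelve he hq (tit hX) (by rw [hc, c1 hg]; norm_num) (by rw [hc, c1 hg]; norm_num) (by rw [hc, c1 hg]; norm_num)
  · -- th, 3, 87
    exact h87 hq

end

/-- **No sporadic and Tits composition factors** if `L` is neither `Sp₆(2)` nor `Ω₈⁺(2)`. -/
theorem no35 {L : Type*} [Group L] [Finite L]
    (hL : (Cfsg.IsPSp L ∧ ∀ (F : Type) [Field F] [Fintype F], Fintype.card F = 3 → ¬ Nonempty (L ≃* Cfsg.PSp 2 F)) ∨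
      Cfsg.IsPOmegaOdd L ∨ Cfsg.IsPOmegaPlus L ∨ Cfsg.IsPOmegaMinus L) (hns : ¬ Sm L)
    {G : Type*} [Group G] [Finite G] (h : Set.range (orderOf : G → ℕ) = Set.range (orderOf : L → ℕ))
    (H : Subgroup G) (hH : H.IsSubnormal) (N : Subgroup ↥H) [N.Normal]
    (hs : IsSimpleGroup (↥H ⧸ N)) (hna : ¬ IsMulCommutative (↥H ⧸ N)) :
    ¬ Cfsg.IsSporadic (↥H ⧸ N) ∧ ¬ Nonempty ((↥H ⧸ N) ≃* Cfsg.Lie.TitsGroup) := by
  have key : ¬ (Cfsg.IsSporadic (↥H ⧸ N) ∨ Cfsg.Lie.IsoTits (↥H ⧸ N)) := by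
    intro hsp
    obtain ⟨x, hx, hc⟩ := card_mem hsp
    have hreal : Real x.1 (↥H ⧸ N) := by
      refine real_of_card table (S0000.result) ?_ hx hc
      intro hcomm
      exact hna ⟨⟨hcomm⟩⟩
    obtain ⟨q, e, n, hf⟩ := exists_fam2 hL
    exact no_spor h hf hns hH hs hna hx hreal hc
  exact ⟨fun h => key (Or.inl h), fun h => key (Or.inr h)⟩

end Cfsg.Agent.H390.Sp
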